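import Cfsg.Agent.H265.J4LP.Eleven
import Cfsg.Agent.S0144

/-!
# S4819, S4820: the elements of `J₄` of order divisible by 11, main result (helper265)

`eleven : Eleven D` for the group `Spor.J4`.
-/

set_option autoImplicit false

namespace Cfsg.Agent.H265.J4LP.El

open Cfsg.Agent.Lib.F2MatGroup Cfsg.Agent.J4.Rep112 Cfsg.Agent.H859.NUData
open Cfsg.Agent.H859.PGLWords (check_J4 evG_append)
open Cfsg.Agent.SporadicStructure.M11InvCore (T W ev exists_word)
open Cfsg.Agent.H859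
open Subgroup

local notation "𝒢" => Cfsg.Spor.J4

theorem t_sq : t * t = 1 := by
  have h := eqX (v := [iB, iB]) (w := []) (by decide +kernel)
  rwa [ev2, evG_nil] at h

theorem t_ne : t ≠ 1 := by
  have h := neX (v := [iB]) (w := []) (by decide +kernel)
  rwa [ev1, evG_nil] at h

theorem x_ne : x ≠ 1 := by
  have h := neX (v := xw) (w := []) (by decide +kernel)
  rwa [ev_xw, evG_nil] at h

theorem x_t : x * t = t * x := by
  have h := eqX (v := [iB] ++ xw) (w := xw ++ [iB]) (by decide +kernel)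
  rw [evG_append, evG_append, ev_xw, ev1] at h
  exact h.symm

/-- the element of order 5 -/
noncomputable def c5 : 𝒢 := NU.k * NU.B

theorem ev_c5 : evG NU.L [ik, iB] = c5 := ev2 _ _

theorem c5_A : c5 * NU.A = NU.A * c5 := by
  have h := eqX (v := [ik, iB, iA]) (w := [iA, ik, iB]) (by decide +kernel)
  rw [ev3, ev3, ← mul_assoc] at h
  exact h

theorem c5_B : c5 * NU.B = NU.B * c5 := by
  have h := eqX (v := [ik, iB, iB]) (w := [iB, ik, iB]) (by decide +kernel)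
  rw [ev3, ev3, ← mul_assoc] at h
  exact h

theorem c5_x : c5 * x * c5⁻¹ = x ^ 4 := by
  have h := eqX (v := [ik, iB] ++ xw) (w := xw ++ (xw ++ (xw ++ (xw ++ [ik, iB])))) (by decide +kernel)
  simp only [evG_append, ev_xw, ev_c5] at h
  rw [mul_inv_eq_iff_eq_mul, h]
  simp only [pow_succ, pow_zero, one_mul, mul_assoc]

theorem neg_x : phi (-1) * x * (phi (-1))⁻¹ = x⁻¹ := by
  have h := eqX (v := xw ++ ([1] ++ xw)) (w := [1]) (by decide +kernel)
  simp only [evG_append, ev_xw] at h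
  rw [ev1, ← phi_neg] at h
  rw [mul_inv_eq_iff_eq_mul, eq_inv_mul_iff_mul_eq]
  exact h

theorem c5_evJ (l : List Bool) : c5 * NU.evJ l = NU.evJ l * c5 := by
  induction l with
  | nil => show c5 * 1 = 1 * c5; rw [mul_one, one_mul]
  | cons b l ih =>
    cases b
    · show c5 * (NU.B * NU.evJ l) = NU.B * NU.evJ l * c5
      rw [← mul_assoc, c5_B, mul_assoc, ih, mul_assoc]
    · show c5 * (NU.A * NU.evJ l) = NU.A * NU.evJ l * c5
      rw [← mul_assoc, c5_A, mul_assoc, ih, mul_assoc]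

theorem c5_phi (s : SL) : c5 * phi s = phi s * c5 := by
  obtain ⟨l, -, h⟩ := hom_evJ (Matrix.SpecialLinearGroup.toGL s)
  have h1 : phi s = NU.evJ l := h
  rw [h1, c5_evJ]

theorem B_c : NU.B * NU.c * NU.B⁻¹ = NU.c ^ 10 := by
  have h := NU.B_c
  rwa [pow_zero, pow_zero, one_mul, one_mul] at h

theorem c5_z : c5 * z * c5⁻¹ = z ^ 5 := by
  have hk : NU.k * NU.c * NU.k⁻¹ = NU.c ^ 6 := by
    have h := NU.k_c
    rwa [pow_zero, pow_zero, one_mul, one_mul] at h
  unfold c5 z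
  calc NU.k * NU.B * NU.c * (NU.k * NU.B)⁻¹ = NU.k * (NU.B * NU.c * NU.B⁻¹) * NU.k⁻¹ := by group
    _ = (NU.k * NU.c * NU.k⁻¹) ^ 10 := by rw [B_c, conj_pow]
    _ = NU.c ^ 5 := by
      rw [hk, ← pow_mul, show 6 * 10 = 11 * 5 + 5 by norm_num, pow_add, pow_mul, NU.rel.wp, one_pow, one_mul]

/-! ### the swap -/

/-- the swap matrix -/
noncomputable def gW : GL (Fin 2) (ZMod 3) := ⟨W, W, by decide +kernel, by decide +kernel⟩

theorem hom_gW : NU.hom gW = NU.B := by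
  show NU.gm W = NU.B
  have h := NU.gm_W (M := 1) (by rw [Matrix.det_one]; decide)
  rw [mul_one, NU.gm_one, mul_one] at h
  exact h

theorem W_mul (s : SL) : W * (s : Matrix (Fin 2) (Fin 2) (ZMod 3)) = ((sw s : SL) : Matrix (Fin 2) (Fin 2) (ZMod 3)) * W := by
  ext i j
  fin_cases i <;> fin_cases j <;>
    simp [W, sw, Matrix.mul_apply, Fin.sum_univ_two]

theorem B_phi (s : SL) : NU.B * phi s = phi (sw s) * NU.B := by
  have h : gW * Matrix.SpecialLinearGroup.toGL s = Matrix.SpecialLinearGroup.toGL (sw s) * gW := Units.ext (W_mul s)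
  have h1 := congrArg NU.hom h
  rw [map_mul, map_mul, hom_gW] at h1
  exact h1

theorem sw_sw : ∀ s : SL, sw (sw s) = s := by decide +kernel

theorem sw_neg : sw (-1) = -1 := by decide +kernel

theorem t_neg : t * phi (-1) = phi (-1) * t := by
  have h := B_phi (-1)
  rw [sw_neg] at h
  exact h

/-! ### power maps -/

theorem z_pow_mod {m n : ℕ} (h : m % 11 = n % 11) : z ^ m = z ^ n :=
  (pow_eq_pow_iff_modEq (x := z)).2 (spl.ord.symm ▸ h)

theorem x_pow : x ^ 11 = 1 := Heis.pow_p NU.rel (by norm_num)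
  ((Heis.mem_gp NU.rel).2 ⟨1, 7, 9, by rw [pow_one, mul_assoc]; rfl⟩)

theorem x_inv : x⁻¹ = x ^ 10 := inv_eq_of_mul_eq_one_right ((pow_succ' x 10).symm.trans x_pow)

theorem x_mem : x ∈ NU.U := (Heis.mem_gp NU.rel).2 ⟨1, 7, 9, by rw [pow_one, mul_assoc]; rfl⟩

theorem ord_x : orderOf x = 11 := orderOf_eq_prime x_pow x_ne

theorem x_pow_mod {m n : ℕ} (h : m % 11 = n % 11) : x ^ m = x ^ n :=
  (pow_eq_pow_iff_modEq (x := x)).2 (ord_x.symm ▸ h)

theorem c5_pow_z (m : ℕ) : ∀ k : ℕ, c5 ^ m * z ^ k * (c5 ^ m)⁻¹ = z ^ (5 ^ m * k) := by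
  induction m with
  | zero => intro k; simp
  | succ m ih =>
    intro k
    have h1 : c5 ^ (m + 1) * z ^ k * (c5 ^ (m + 1))⁻¹ = c5 ^ m * (c5 * z ^ k * c5⁻¹) * (c5 ^ m)⁻¹ := by
      rw [pow_succ]; group
    rw [h1, ← conj_pow, c5_z, ← pow_mul, ih, pow_succ, mul_assoc]

theorem c5_pow_x (m : ℕ) : ∀ k : ℕ, c5 ^ m * x ^ k * (c5 ^ m)⁻¹ = x ^ (4 ^ m * k) := by
  induction m with
  | zero => intro k; simp
  | succ m ih =>
    intro k
    have h1 : c5 ^ (m + 1) * x ^ k * (c5 ^ (m + 1))⁻¹ = c5 ^ m * (c5 * x ^ k * c5⁻¹) * (c5 ^ m)⁻¹ := by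
      rw [pow_succ]; group
    rw [h1, ← conj_pow, c5_x, ← pow_mul, ih, pow_succ, mul_assoc]

theorem conj_mul_comm {G : Type*} [Group G] {g a b : G} (h : g * b = b * g) : g * (a * b) * g⁻¹ = g * a * g⁻¹ * b := by
  calc g * (a * b) * g⁻¹ = g * a * g⁻¹ * (g * b) * g⁻¹ := by group
    _ = g * a * g⁻¹ * b := by rw [h]; group

theorem c5_pow_phi (m : ℕ) (s : SL) : c5 ^ m * phi s = phi s * c5 ^ m :=
  ((show Commute c5 (phi s) from c5_phi s).pow_left m).eq

theorem c5_pow_t (m : ℕ) : c5 ^ m * t = t * c5 ^ m :=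
  ((show Commute c5 t from c5_B).pow_left m).eq

theorem pow_sq (s : SL) : ∀ k ∈ [1, 3, 4, 5, 9], IsConj (z ^ k * phi s) (z * phi s) := by
  have key : ∀ m : ℕ, ∀ k : ℕ, 5 ^ m % 11 = k % 11 → IsConj (z ^ k * phi s) (z * phi s) := by
    intro m k h
    refine IsConj.symm (isConj_iff.2 ⟨c5 ^ m, ?_⟩)
    rw [conj_mul_comm (c5_pow_phi m s)]
    have h1 := c5_pow_z m 1
    rw [pow_one, mul_one] at h1
    rw [h1, z_pow_mod h]
  intro k hk
  simp only [List.mem_cons, List.not_mem_nil, or_false] at hk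
  rcases hk with rfl | rfl | rfl | rfl | rfl
  · exact key 0 _ (by norm_num)
  · exact key 2 _ (by norm_num)
  · exact key 3 _ (by norm_num)
  · exact key 1 _ (by norm_num)
  · exact key 4 _ (by norm_num)

theorem pow_nsq (s : SL) : ∀ k ∈ [2, 6, 7, 8, 10], IsConj (z ^ k * phi s) (z * phi (sw s)) := by
  have key : ∀ m : ℕ, ∀ k : ℕ, 5 ^ m * 10 % 11 = k % 11 → IsConj (z ^ k * phi s) (z * phi (sw s)) := by
    intro m k h
    have h1 : IsConj (z * phi (sw s)) (z ^ 10 * phi s) := by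
      refine isConj_iff.2 ⟨NU.B, ?_⟩
      have h2 : NU.B * phi (sw s) * NU.B⁻¹ = phi s := by
        rw [B_phi, sw_sw, mul_inv_cancel_right]
      calc NU.B * (z * phi (sw s)) * NU.B⁻¹ = (NU.B * z * NU.B⁻¹) * (NU.B * phi (sw s) * NU.B⁻¹) := by group
        _ = z ^ 10 * phi s := by rw [h2]; exact congrArg (· * phi s) B_c
    have h3 : IsConj (z ^ 10 * phi s) (z ^ k * phi s) := by
      refine isConj_iff.2 ⟨c5 ^ m, ?_⟩
      rw [conj_mul_comm (c5_pow_phi m s), c5_pow_z, z_pow_mod h]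
    exact (h1.trans h3).symm
  intro k hk
  simp only [List.mem_cons, List.not_mem_nil, or_false] at hk
  rcases hk with rfl | rfl | rfl | rfl | rfl
  · exact key 4 _ (by norm_num)
  · exact key 1 _ (by norm_num)
  · exact key 3 _ (by norm_num)
  · exact key 2 _ (by norm_num)
  · exact key 0 _ (by norm_num)

theorem pow_xt (k : ℕ) (hk : ¬ 11 ∣ k) : IsConj (x ^ k * t) (x * t) := by
  have key : ∀ m : ℕ, 4 ^ m % 11 = k % 11 → IsConj (x ^ k * t) (x * t) := by
    intro m h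
    refine IsConj.symm (isConj_iff.2 ⟨c5 ^ m, ?_⟩)
    rw [conj_mul_comm (c5_pow_t m)]
    have h1 := c5_pow_x m 1
    rw [pow_one, mul_one] at h1
    rw [h1, x_pow_mod h]
  have key2 : ∀ m : ℕ, 4 ^ m * 10 % 11 = k % 11 → IsConj (x ^ k * t) (x * t) := by
    intro m h
    have h1 : IsConj (x * t) (x ^ 10 * t) := by
      refine isConj_iff.2 ⟨phi (-1), ?_⟩
      rw [conj_mul_comm t_neg.symm, neg_x, x_inv]
    have h3 : IsConj (x ^ 10 * t) (x ^ k * t) := by
      refine isConj_iff.2 ⟨c5 ^ m, ?_⟩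
      rw [conj_mul_comm (c5_pow_t m), c5_pow_x, x_pow_mod h]
    exact (h1.trans h3).symm
  have hk' : k % 11 ≠ 0 := fun h => hk (Nat.dvd_of_mod_eq_zero h)
  have h11 : k % 11 < 11 := Nat.mod_lt _ (by norm_num)
  generalize k % 11 = r at key key2 hk' h11
  interval_cases r
  · exact absurd rfl hk'
  · exact key 0 (by norm_num)
  · exact key2 3 (by norm_num)
  · exact key 4 (by norm_num)
  · exact key 1 (by norm_num)
  · exact key 2 (by norm_num)
  · exact key2 2 (by norm_num)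
  · exact key2 1 (by norm_num)
  · exact key2 4 (by norm_num)
  · exact key 3 (by norm_num)
  · exact key2 0 (by norm_num)

/-! ### the classes in `P` -/

theorem x_notMem : x ∉ zpowers z := by
  rintro ⟨i, hi⟩
  have hi' : z ^ i = x := hi
  have hB : NU.B * z * NU.B⁻¹ = z⁻¹ := by
    rw [show NU.B * z * NU.B⁻¹ = z ^ 10 from B_c, eq_inv_iff_mul_eq_one, ← pow_succ]
    exact NU.rel.wp
  have h1 : NU.B * x * NU.B⁻¹ = x⁻¹ := by
    rw [← hi', ← conj_zpow, hB, inv_zpow]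
  have h2 : NU.B * x * NU.B⁻¹ = x := by
    have h3 : NU.B * x = x * NU.B := x_t.symm
    rw [h3, mul_inv_cancel_right]
  apply x_ne
  refine odd_one x_pow ?_
  have h3 : x = x⁻¹ := h2.symm.trans h1
  calc x * x = x * x⁻¹ := by rw [← h3]
    _ = 1 := mul_inv_cancel x

theorem conj_z (u : 𝒢) (hu : u ∈ zpowers z) (h : u ≠ 1) : IsConj u z := ClassEleven.isConj_c hu h

theorem conj_x (u : 𝒢) (hu : u ∈ NU.U) (h : u ∉ zpowers z) : IsConj u x :=
  (isConj_x hu h).trans (isConj_x x_mem x_notMem).symm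

theorem pow_x (k : ℕ) (hk : ¬ 11 ∣ k) : IsConj (x ^ k) x := by
  apply conj_x _ (pow_mem x_mem k)
  intro h
  apply x_notMem
  have hc : Nat.Coprime k 11 := ((Nat.Prime.coprime_iff_not_dvd (by norm_num)).2 hk).symm
  obtain ⟨m, -, hm⟩ := Nat.exists_mul_mod_eq_one_of_coprime hc (by norm_num)
  have h1 : (x ^ k) ^ m = x := by
    rw [← pow_mul]
    have := x_pow_mod (m := k * m) (n := 1) (by rw [hm])
    rwa [pow_one] at this
  rw [← h1]
  exact pow_mem h m

theorem card_cent_x : Nat.card (centralizer ({x} : Set 𝒢)) = 242 := card_cent_u x_mem x_notMem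

theorem ord_t : orderOf t = 2 := orderOf_eq_prime (by rw [pow_two]; exact t_sq) t_ne

theorem ord_xt : orderOf (x * t) = 22 := by
  have h := (show Commute x t from x_t).orderOf_mul_eq_mul_orderOf_of_coprime (by rw [ord_x, ord_t]; norm_num)
  rw [h, ord_x, ord_t]

theorem ord_zphi (s : SL) : orderOf (z * phi s) = 11 * orderOf s := by
  have h := (show Commute z (phi s) from phi_c s).orderOf_mul_eq_mul_orderOf_of_coprime (by
    rw [spl.ord, orderOf_injective phi phi_injective]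
    refine Nat.Coprime.coprime_dvd_right (orderOf_dvd_of_pow_eq_one (pow24 s)) (by norm_num))
  rw [h, spl.ord, orderOf_injective phi phi_injective]

/-- an element commuting with `x r`, `r² = 1`, commutes with `x` and `r` -/
theorem comm_xr {g x' r r' : 𝒢} (hx : x' ^ 11 = 1) (hr : r * r = 1) (hxr : x' * r = r * x') (hr' : r' * r' = 1)
    {x₁ : 𝒢} (hx1 : x₁ ^ 11 = 1) (hxr' : x₁ * r' = r' * x₁) (h : g * (x' * r) * g⁻¹ = x₁ * r') :
    g * x' * g⁻¹ = x₁ ∧ g * r * g⁻¹ = r' := by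
  have key : ∀ {a b : 𝒢}, a ^ 11 = 1 → b * b = 1 → a * b = b * a → (a * b) ^ 12 = a := by
    intro a b ha hb hab
    rw [(show Commute a b from hab).mul_pow, show b ^ 12 = (b * b) ^ 6 by rw [← pow_two, ← pow_mul], hb, one_pow, mul_one,
      show a ^ 12 = a ^ 11 * a from pow_succ a 11, ha, one_mul]
  have h1 : g * x' * g⁻¹ = x₁ := by
    have h2 : (g * (x' * r) * g⁻¹) ^ 12 = (x₁ * r') ^ 12 := by rw [h]
    rw [conj_pow, key hx hr hxr, key hx1 hr' hxr'] at h2
    exact h2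
  refine ⟨h1, ?_⟩
  have h3 : g * (x' * r) * g⁻¹ = (g * x' * g⁻¹) * (g * r * g⁻¹) := by group
  rw [h, h1] at h3
  exact (mul_left_cancel h3).symm

theorem card_cent_xt : Nat.card (centralizer ({x * t} : Set 𝒢)) = 22 := by
  have hc : ∀ g ∈ centralizer ({x * t} : Set 𝒢), g * x = x * g ∧ g * t = t * g := by
    intro g hg
    have h1 : g * (x * t) * g⁻¹ = x * t := by
      rw [mem_centralizer_singleton_iff.1 hg, mul_inv_cancel_right]
    obtain ⟨h2, h3⟩ := comm_xr x_pow t_sq x_t t_sq x_pow x_t h1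
    exact ⟨mul_inv_eq_iff_eq_mul.1 h2, mul_inv_eq_iff_eq_mul.1 h3⟩
  have hle : centralizer ({x * t} : Set 𝒢) ≤ centralizer ({x} : Set 𝒢) := fun g hg =>
    mem_centralizer_singleton_iff.2 (hc g hg).1
  have h1 := card_dvd_of_le hle
  rw [card_cent_x] at h1
  have h2 : 22 ∣ Nat.card (centralizer ({x * t} : Set 𝒢)) := by
    have h3 : zpowers (x * t) ≤ centralizer ({x * t} : Set 𝒢) := by
      rw [zpowers_le]; exact mem_centralizer_singleton_iff.2 rfl
    have h4 := card_dvd_of_le h3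
    rwa [Nat.card_zpowers, ord_xt] at h4
  have h3 : Nat.card (centralizer ({x * t} : Set 𝒢)) ≠ 242 := by
    intro h
    have h4 : centralizer ({x * t} : Set 𝒢) = centralizer ({x} : Set 𝒢) :=
      eq_of_le_of_card_ge hle (by rw [h, card_cent_x])
    have h5 : z ∈ centralizer ({x} : Set 𝒢) := mem_centralizer_singleton_iff.2 (spl.cent x x_mem)
    rw [← h4] at h5
    have h6 := (hc z h5).2
    have h7 : t * z * t⁻¹ = z ^ 10 := B_c
    have h8 : t * z * t⁻¹ = z := by rw [← h6, mul_inv_cancel_right]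
    have h9 : z = z ^ 10 := h8.symm.trans h7
    have h10 : z ^ 1 = z ^ 10 := by rw [pow_one]; exact h9
    have h11 := (pow_eq_pow_iff_modEq (x := z)).1 h10
    rw [spl.ord] at h11
    exact absurd h11 (by decide)
  obtain ⟨m, hm⟩ := h2
  rw [hm] at h1 h3 ⊢
  have h4 : m ∣ 11 := by
    have h5 : 22 * m ∣ 22 * 11 := h1
    exact Nat.dvd_of_mul_dvd_mul_left (by norm_num) h5
  rcases (Nat.dvd_prime (by norm_num)).1 h4 with h5 | h5
  · rw [h5]
  · exact absurd (by rw [h5]) h3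

/-! ### the data -/

/-- the data of `J₄` -/
noncomputable def D : Data11 𝒢 where
  z := z
  x := x
  t := t
  P := NU.U
  phi := phi

theorem ne_one_of : ((-1 : SL) ≠ 1 ∧ sy ≠ 1 ∧ sy⁻¹ ≠ 1 ∧ si ≠ 1 ∧ -sy ≠ 1 ∧ (-sy)⁻¹ ≠ 1) := by
  refine ⟨?_, ?_, ?_, ?_, ?_, ?_⟩ <;> decide +kernel

theorem card_cent_rep (j : Fin 9) : Nat.card (centralizer ({D.rep j} : Set 𝒢)) =
    (![31944, 242, 264, 22, 66, 66, 44, 66, 66] : Fin 9 → ℕ) j := by
  obtain ⟨n1, n2, n3, n4, n5, n6⟩ := ne_one_of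
  fin_cases j
  · exact card_cent_z
  · exact card_cent_x
  · exact (card_cent n1).trans (by rw [card_cent_SL cc_neg]; rfl)
  · exact card_cent_xt
  · exact (card_cent n2).trans (by rw [card_cent_SL cc_sy]; rfl)
  · exact (card_cent n3).trans (by rw [card_cent_SL cc_syi]; rfl)
  · exact (card_cent n4).trans (by rw [card_cent_SL cc_si]; rfl)
  · exact (card_cent n5).trans (by rw [card_cent_SL cc_nsy]; rfl)
  · exact (card_cent n6).trans (by rw [card_cent_SL cc_nsyi]; rfl)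

theorem ord_rep (j : Fin 9) : orderOf (D.rep j) = (![11, 11, 22, 22, 33, 33, 44, 66, 66] : Fin 9 → ℕ) j := by
  obtain ⟨o1, o2, o3, o4⟩ := ord_SL
  fin_cases j
  · exact spl.ord
  · exact ord_x
  · exact (ord_zphi _).trans (by rw [o1]; rfl)
  · exact ord_xt
  · exact (ord_zphi _).trans (by rw [o3]; rfl)
  · exact (ord_zphi _).trans (by rw [orderOf_inv, o3]; rfl)
  · exact (ord_zphi _).trans (by rw [o2]; rfl)
  · exact (ord_zphi _).trans (by rw [o4]; rfl)
  · exact (ord_zphi _).trans (by rw [orderOf_inv, o4]; rfl)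

theorem key_inj : ∀ i j : Fin 9, (![11, 11, 22, 22, 33, 33, 44, 66, 66] : Fin 9 → ℕ) i =
    (![11, 11, 22, 22, 33, 33, 44, 66, 66] : Fin 9 → ℕ) j →
    (![31944, 242, 264, 22, 66, 66, 44, 66, 66] : Fin 9 → ℕ) i =
    (![31944, 242, 264, 22, 66, 66, 44, 66, 66] : Fin 9 → ℕ) j → i = j ∨ (i = 4 ∧ j = 5) ∨ (i = 5 ∧ j = 4) ∨
    (i = 7 ∧ j = 8) ∨ (i = 8 ∧ j = 7) := by decide

theorem orderOf_of_conj {a b : 𝒢} (h : IsConj a b) : orderOf a = orderOf b := by
  obtain ⟨g, rfl⟩ := isConj_iff.1 h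
  exact (orderOf_injective (MulAut.conj g).toMonoidHom (MulAut.conj g).injective a).symm

theorem rep_inj (i j : Fin 9) (h : IsConj (D.rep i) (D.rep j)) : i = j := by
  have h1 := orderOf_of_conj h
  have h2 := ClassEleven.card_centralizer_conj h
  rw [ord_rep, ord_rep] at h1
  rw [card_cent_rep, card_cent_rep] at h2
  rcases key_inj i j h1 h2 with h3 | ⟨rfl, rfl⟩ | ⟨rfl, rfl⟩ | ⟨rfl, rfl⟩ | ⟨rfl, rfl⟩
  · exact h3
  · exfalso
    have h4 : IsConj (z * phi sy) (z * phi sy⁻¹) := h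
    obtain ⟨g, hg⟩ := isConj_iff.1 (spl.conj_iff.1 h4)
    exact nc_sy g hg
  · exfalso
    have h4 : IsConj (z * phi sy⁻¹) (z * phi sy) := h
    obtain ⟨g, hg⟩ := isConj_iff.1 (spl.conj_iff.1 h4).symm
    exact nc_sy g hg
  · exfalso
    have h4 : IsConj (z * phi (-sy)) (z * phi (-sy)⁻¹) := h
    obtain ⟨g, hg⟩ := isConj_iff.1 (spl.conj_iff.1 h4)
    exact nc_nsy g hg
  · exfalso
    have h4 : IsConj (z * phi (-sy)⁻¹) (z * phi (-sy)) := h
    obtain ⟨g, hg⟩ := isConj_iff.1 (spl.conj_iff.1 h4).symm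
    exact nc_nsy g hg

theorem solvable_SL : Group.IsSolvable SL :=
  Cfsg.Agent.S0144.result 2 3 3 1 (by norm_num) (by norm_num) (by rw [card_SL]; norm_num)

theorem exhaust_phi (s : SL) : ∃ j, IsConj (z * phi s) (D.rep j) := by
  have key : ∀ {s s' : SL}, (∃ g : SL, g * s * g⁻¹ = s') → IsConj (z * phi s) (z * phi s') := fun h =>
    spl.conj_iff.2 (isConj_iff.2 h)
  rcases classes_SL s with h | h | h | h | h | h | h
  · refine ⟨0, ?_⟩
    rw [h, map_one, mul_one]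
    exact IsConj.refl _
  · refine ⟨2, ?_⟩
    rw [h]
    exact IsConj.refl _
  · exact ⟨6, key h⟩
  · exact ⟨4, key h⟩
  · exact ⟨5, key h⟩
  · exact ⟨7, key h⟩
  · exact ⟨8, key h⟩

/-- involutions of `C(x)` -/
theorem conj_t {r : 𝒢} (hr : r * x = x * r) (hr2 : r * r = 1) (hr1 : r ≠ 1) :
    ∃ y : 𝒢, y * x = x * y ∧ y * r * y⁻¹ = t := by
  have hfact : Fact (Nat.Prime 2) := ⟨Nat.prime_two⟩
  set C := centralizer ({x} : Set 𝒢) with hC
  set t' : C := ⟨t, mem_centralizer_singleton_iff.2 x_t.symm⟩ with ht'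
  have ho : orderOf t' = 2 := by rw [ht', Subgroup.orderOf_mk]; exact ord_t
  have hp : IsPGroup 2 (zpowers t') := IsPGroup.of_card (n := 1) (by rw [Nat.card_zpowers, ho, pow_one])
  have hidx : ¬ 2 ∣ (zpowers t').index := by
    intro h
    have h1 := (zpowers t').card_mul_index
    have h2 : Nat.card C = 242 := card_cent_x
    rw [Nat.card_zpowers, ho, h2] at h1
    omega
  have hr' : (⟨r, mem_centralizer_singleton_iff.2 hr⟩ : C) ^ 2 ^ 1 = 1 := by
    apply Subtype.ext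
    show r ^ 2 ^ 1 = 1
    rw [pow_one, pow_two]; exact hr2
  obtain ⟨⟨y, hy⟩, h1⟩ := SylEleven.exists_conj_mem hp hidx ⟨1, hr'⟩
  refine ⟨y, mem_centralizer_singleton_iff.1 hy, ?_⟩
  obtain ⟨i, hi⟩ := h1
  have hi' : t ^ i = y * r * y⁻¹ := congrArg Subtype.val hi
  have h2 : t ^ i = t ^ (i % 2) := by
    conv_lhs => rw [← Int.emod_add_mul_ediv i 2]
    rw [zpow_add, zpow_mul, show t ^ (2 : ℤ) = t * t by rw [zpow_ofNat, pow_two], t_sq, one_zpow, mul_one]
  rw [h2] at hi'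
  rcases Int.emod_two_eq i with h3 | h3
  · exfalso
    rw [h3, zpow_zero] at hi'
    apply hr1
    have h4 : r = y⁻¹ * (y * r * y⁻¹) * y := by group
    rw [h4, ← hi']; group
  · rw [h3, zpow_one] at hi'
    exact hi'.symm

theorem exhaust (g : 𝒢) (hg : 11 ∣ orderOf g) : ∃ j, IsConj g (D.rep j) := by
  have hfact : Fact (Nat.Prime 11) := ⟨by norm_num⟩
  obtain ⟨u, v, huv, ⟨n, hn⟩, hv⟩ := exists_parts (p := 11) (by norm_num) g
  have ha1 : g ^ u ≠ 1 := by
    intro h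
    rw [h, one_mul] at huv
    rw [huv] at hv
    exact hv hg
  have hcomm : g ^ v * g ^ u = g ^ u * g ^ v := by rw [← pow_add, ← pow_add, add_comm]
  -- the 11-part has order 11
  have ho : orderOf (g ^ u) = 11 := by
    obtain ⟨y, hy⟩ := SylEleven.exists_conj_mem SylEleven.isPGroup_U SylEleven.not_dvd_U ⟨n, hn⟩
    have h1 : (y * g ^ u * y⁻¹) ^ 11 = 1 := Heis.pow_p NU.rel (by norm_num) hy
    apply orderOf_eq_prime _ ha1
    rw [conj_pow] at h1
    have h2 : (g ^ u) ^ 11 = y⁻¹ * (y * (g ^ u) ^ 11 * y⁻¹) * y := by group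
    rw [h2, h1]; group
  have key : ∀ a : 𝒢, IsConj (g ^ u) a → ∃ r : 𝒢, IsConj g (a * r) ∧ r * a = a * r ∧ ¬ 11 ∣ orderOf r := by
    intro a ha
    obtain ⟨y, rfl⟩ := isConj_iff.1 ha
    refine ⟨y * g ^ v * y⁻¹, isConj_iff.2 ⟨y, ?_⟩, ?_, ?_⟩
    · conv_lhs => rw [← huv]
      group
    · have e1 : y * g ^ v * y⁻¹ * (y * g ^ u * y⁻¹) = y * (g ^ v * g ^ u) * y⁻¹ := by group
      have e2 : y * g ^ u * y⁻¹ * (y * g ^ v * y⁻¹) = y * (g ^ u * g ^ v) * y⁻¹ := by group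
      rw [e1, e2, hcomm]
    · rwa [← orderOf_of_conj (isConj_iff.2 ⟨y, rfl⟩ : IsConj (g ^ v) (y * g ^ v * y⁻¹))]
  rcases ClassEleven.isConj_or ho with h | h
  · -- class of `x`
    obtain ⟨r, h1, h2, h3⟩ := key x (h.trans (isConj_x x_mem x_notMem).symm)
    have h4 : orderOf r ∣ 242 := by
      have := orderOf_dvd_natCard (⟨r, mem_centralizer_singleton_iff.2 h2⟩ : centralizer ({x} : Set 𝒢))
      rwa [Subgroup.orderOf_mk, card_cent_x] at this
    have h5 : orderOf r ∣ 2 := by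
      have h6 : Nat.Coprime (orderOf r) (11 ^ 2) :=
        (Nat.Coprime.pow_left 2 ((Nat.Prime.coprime_iff_not_dvd (by norm_num)).2 h3)).symm
      exact h6.dvd_of_dvd_mul_right (show orderOf r ∣ 2 * 11 ^ 2 from h4)
    have h6 : r * r = 1 := by rw [← pow_two]; exact orderOf_dvd_iff_pow_eq_one.1 h5
    by_cases hr : r = 1
    · refine ⟨1, ?_⟩
      rw [hr, mul_one] at h1
      exact h1
    · obtain ⟨y, hy1, hy2⟩ := conj_t h2 h6 hr
      refine ⟨3, h1.trans (isConj_iff.2 ⟨y, ?_⟩)⟩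
      show y * (x * r) * y⁻¹ = x * t
      calc y * (x * r) * y⁻¹ = (y * x) * r * y⁻¹ := by group
        _ = x * (y * r * y⁻¹) := by rw [hy1]; group
        _ = x * t := by rw [hy2]
  · -- class of `z`
    obtain ⟨r, h1, h2, h3⟩ := key z h
    obtain ⟨s, hs⟩ := spl.exists_conj solvable_SL h2 h3
    obtain ⟨j, hj⟩ := exhaust_phi s
    exact ⟨j, h1.trans (hs.trans hj)⟩

/-- **the elements of `J₄` of order divisible by 11** -/
theorem eleven : Eleven D where
  card_P := card_P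
  ord_z := spl.ord
  ord_x := ord_x
  ord_t := ord_t
  z_mem := spl.mem
  x_mem := x_mem
  x_notMem := x_notMem
  z_comm := spl.cent
  conj_z := conj_z
  conj_x := conj_x
  z_phi := phi_c
  phi_inj := phi_injective
  x_t := x_t
  norm_P := fun s u hu => (mem_normalizer_iff.1 (spl.range_le ⟨s, rfl⟩) u).1 hu
  pow_sq := pow_sq
  pow_nsq := pow_nsq
  pow_xt := pow_xt
  pow_x := pow_x
  card_cent := card_cent_rep
  ord_rep := ord_rep
  conj_iff := fun s s' => spl.conj_iff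
  rep_inj := rep_inj
  exhaust := exhaust

end Cfsg.Agent.H265.J4LP.El
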