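import Cfsg.Agent.H265.J4LP.Seven
import Cfsg.Agent.H858.Loc5

/-!
# S4819, S4820: the elements of `J₄` of order divisible by 5 (helper265)
-/

set_option autoImplicit false
set_option maxRecDepth 20000

namespace Cfsg.Agent.H265.J4LP

open Subgroup

/-- an element `y` of order 5, `C(y) = ⟨y⟩ × H`, `V` elementary abelian of order 8 normal in `H` -/
structure Data5 (G : Type*) [Group G] where
  y : G
  H : Subgroup G
  V : Subgroup G
  n : G

/-- the facts -/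
structure Five {G : Type*} [Group G] (D : Data5 G) : Prop where
  ord_y : orderOf D.y = 5
  card_H : Nat.card D.H = 1344
  card_V : Nat.card D.V = 8
  V_le : D.V ≤ D.H
  V_sq : ∀ v ∈ D.V, v * v = 1
  V_comm : ∀ v ∈ D.V, ∀ w ∈ D.V, v * w = w * v
  V_norm : ∀ h ∈ D.H, ∀ v ∈ D.V, h * v * h⁻¹ ∈ D.V
  V_cent : ∀ h ∈ D.H, (∀ v ∈ D.V, h * v = v * h) → h ∈ D.V
  quot : ∃ π : D.H →* Matrix.SpecialLinearGroup (Fin 3) (ZMod 2), Function.Surjective π ∧ π.ker = D.V.subgroupOf D.H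
  comm : ∀ h ∈ D.H, D.y * h = h * D.y
  form : ∀ g, g * D.y = D.y * g → ∃ (i : ℕ), ∃ h ∈ D.H, g = D.y ^ i * h
  card_cent : ∀ h : D.H, Nat.card (centralizer ({D.y * (h : G)} : Set G)) = 5 * Nat.card (centralizer ({h} : Set D.H))
  ord : ∀ h : D.H, orderOf (D.y * (h : G)) = 5 * orderOf h
  conj_iff : ∀ h h' : D.H, IsConj (D.y * (h : G)) (D.y * (h' : G)) ↔ IsConj h h'
  n_y : D.n * D.y * D.n⁻¹ = D.y ^ 2
  n_mod : ∀ h ∈ D.H, D.n * h * D.n⁻¹ * h⁻¹ ∈ D.V
  exhaust : ∀ g : G, 5 ∣ orderOf g → ∃ h : D.H, IsConj g (D.y * (h : G))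

namespace Fv

open Cfsg.Agent.Lib.F2MatGroup
open Cfsg.Agent.J4.Rep112 Cfsg.Agent.J4.Pres Cfsg.Agent.J4.M24Hom Cfsg.Agent.J4.LowerData
open Cfsg.Agent.J4.Beta Cfsg.Agent.J4.Classes Cfsg.Agent.J4.Lower
open Cfsg.Agent.H858 Cfsg.Agent.H858.VK Cfsg.Agent.H858.Data Cfsg.Agent.H858.Elem Cfsg.Agent.H858.Pent
open Cfsg.Agent.H858.Norm57 Cfsg.Agent.H858.Abs Cfsg.Agent.H858.Loc7 Cfsg.Agent.H858.Loc5

local notation "𝒢" => Cfsg.Spor.J4

/-! ### the action of `r` on `J` -/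

theorem check5 : run 112 (slpQ ++ slpX) codes (fun L => eqs 112 [([2, 0], bb 1726 ++ [0, 2])] L) = true := by
  decide +kernel

theorem r_j : r * j = V 1726 * (j * r) := by
  obtain ⟨L', h', hk⟩ := run_sound codes_gens check5
  have h'' : List.Forall₂ (Codes 112) (LX.map rho) L' := by rw [map_LX]; exact h'
  have h : evG LX [2, 0] = evG LX (bb 1726 ++ [0, 2]) := by
    apply rho_injective
    rw [← evG_map, ← evG_map]
    exact eqs_sound h'' hk ([2, 0], bb 1726 ++ [0, 2]) (List.mem_singleton.2 rfl)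
  rw [Cfsg.Agent.H859.PGLWords.evG_append, evG_bb] at h
  simp only [evG_cons, evG_nil, mul_one] at h
  rw [r_eq, j_eq]
  exact h

theorem mod_J (h : 𝒢) (hh : h ∈ J) : r * h * r⁻¹ * h⁻¹ ∈ Z := by
  have hn : ∀ h ∈ J, ∀ v ∈ Z, h * v * h⁻¹ ∈ Z := fun h hh v hv => (mem_normalizer_iff.1 (J_le_norm hh) v).1 hv
  let S : Subgroup 𝒢 :=
    { carrier := {h | h ∈ J ∧ r * h * r⁻¹ * h⁻¹ ∈ Z}
      one_mem' := ⟨J.one_mem, by
        have : r * 1 * r⁻¹ * (1 : 𝒢)⁻¹ = 1 := by group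
        rw [this]; exact Z.one_mem⟩
      mul_mem' := by
        rintro a b ⟨ha, ha'⟩ ⟨hb, hb'⟩
        refine ⟨J.mul_mem ha hb, ?_⟩
        have h1 : r * (a * b) * r⁻¹ * (a * b)⁻¹ = (r * a * r⁻¹ * a⁻¹) * (a * (r * b * r⁻¹ * b⁻¹) * a⁻¹) := by group
        rw [h1]
        exact Z.mul_mem ha' (hn a ha _ hb')
      inv_mem' := by
        rintro a ⟨ha, ha'⟩
        refine ⟨J.inv_mem ha, ?_⟩
        have h1 : r * a⁻¹ * r⁻¹ * a⁻¹⁻¹ = a⁻¹ * (r * a * r⁻¹ * a⁻¹)⁻¹ * a⁻¹⁻¹ := by group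
        rw [h1]
        exact hn _ (J.inv_mem ha) _ (Z.inv_mem ha') }
  have hle : J ≤ S := by
    conv_lhs => unfold J
    rw [closure_le]
    rintro _ (rfl | rfl)
    · refine ⟨s_mem, ?_⟩
      have h1 : r * s * r⁻¹ * s⁻¹ = 1 := by rw [r_mul_s]; group
      rw [h1]; exact Z.one_mem
    · refine ⟨j_mem, ?_⟩
      have h1 : r * j * r⁻¹ * j⁻¹ = V 1726 := by
        rw [r_j]; group
      rw [h1]
      exact V_mem_Z 7 (by decide +kernel)
  exact (hle hh).2

/-! ### the centralizer of `f` -/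

theorem cent_F5 : centralizer (F5 : Set 𝒢) = centralizer ({f} : Set 𝒢) := by
  rw [F5, NormC.centralizer_zpowers]

theorem orderOf_f : orderOf f = 5 := by
  have h := card_F5
  rwa [F5, Nat.card_zpowers] at h

theorem comm_f (h : 𝒢) (hh : h ∈ J) : f * h = h * f := by
  have h1 := J_le_C hh
  rw [cent_F5] at h1
  exact (mem_centralizer_singleton_iff.1 h1).symm

instance : Finite 𝒢 := FixJ4.facts.1

theorem spl : Spl 5 f (zpowers f) J.subtype where
  prime := by norm_num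
  inj := J.subtype_injective
  comm := fun h => comm_f h h.2
  ord := orderOf_f
  pgp := IsPGroup.of_card (n := 1) (by rw [Nat.card_zpowers, orderOf_f, pow_one])
  mem := mem_zpowers f
  cent := by
    rintro _ ⟨i, rfl⟩
    exact ((Commute.refl f).zpow_right i).eq
  norm := by
    rw [← cent_F5]
    exact Subgroup.centralizer_le_normalizer _
  card := by
    rw [← cent_F5, Loc5.card_C, Nat.card_zpowers, orderOf_f, card_J]
  cop := by rw [card_J]; norm_num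

theorem central (u : 𝒢) (hu : u ∈ zpowers f) (h : J) : u * J.subtype h = J.subtype h * u := by
  obtain ⟨i, rfl⟩ := hu
  exact ((show Commute f (h : 𝒢) from comm_f h h.2).zpow_left i).eq

theorem fix_all (h : J) : zpowers f ⊓ centralizer ({J.subtype h} : Set 𝒢) = zpowers f := by
  apply le_antisymm inf_le_left
  exact le_inf le_rfl fun u hu => mem_centralizer_singleton_iff.2 (central u hu h)

theorem card_cent (h : J) : Nat.card (centralizer ({f * (h : 𝒢)} : Set 𝒢)) =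
    5 * Nat.card (centralizer ({h} : Set J)) := by
  have h1 := spl.card_cent h
  rw [fix_all, Nat.card_zpowers, orderOf_f] at h1
  exact h1

theorem form (g : 𝒢) (hg : g * f = f * g) : ∃ (i : ℕ), ∃ h ∈ J, g = f ^ i * h := by
  obtain ⟨u, hu, h, e⟩ := spl.form (mem_centralizer_singleton_iff.2 hg)
  classical
  obtain ⟨k, -, hk⟩ := Finset.mem_image.1 (mem_zpowers_iff_mem_range_orderOf.1 hu)
  have hk' : f ^ k = u := hk
  exact ⟨k, h, h.2, by rw [hk', e]; rfl⟩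

theorem r_f : r * f * r⁻¹ = f ^ 2 := by
  rw [mul_inv_eq_iff_eq_mul, r_mul_f, pow_two]

theorem ord_mul (h : J) : orderOf (f * (h : 𝒢)) = 5 * orderOf h := by
  have h1 := (show Commute f (h : 𝒢) from comm_f h h.2).orderOf_mul_eq_mul_orderOf_of_coprime (by
    rw [orderOf_f, Subgroup.orderOf_coe]
    have h2 : orderOf h ∣ 1344 := card_J ▸ orderOf_dvd_natCard h
    exact Nat.Coprime.coprime_dvd_right h2 (by norm_num))
  rw [h1, orderOf_f, Subgroup.orderOf_coe]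

theorem f_pow_mod {m n : ℕ} (h : m % 5 = n % 5) : f ^ m = f ^ n :=
  (pow_eq_pow_iff_modEq (x := f)).2 (orderOf_f.symm ▸ h)

theorem r_pow_f (m : ℕ) : ∀ k : ℕ, r ^ m * f ^ k * (r ^ m)⁻¹ = f ^ (2 ^ m * k) := by
  induction m with
  | zero => intro k; simp
  | succ m ih =>
    intro k
    have h1 : r ^ (m + 1) * f ^ k * (r ^ (m + 1))⁻¹ = r ^ m * (r * f ^ k * r⁻¹) * (r ^ m)⁻¹ := by
      rw [pow_succ]; group
    rw [h1, ← conj_pow, r_f, ← pow_mul, ih, pow_succ, mul_assoc]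

theorem not_dvd_F5 : ¬ 5 ∣ F5.index := by
  intro h
  have h1 := F5.card_mul_index
  rw [card_F5, FixJ4.card_J4] at h1
  omega

theorem exhaust (g : 𝒢) (hg : 5 ∣ orderOf g) : ∃ h : J, IsConj g (f * (h : 𝒢)) := by
  have hfact : Fact (Nat.Prime 5) := ⟨by norm_num⟩
  obtain ⟨u, v, huv, ⟨n, hn⟩, hv⟩ := exists_parts (p := 5) (by norm_num) g
  have ha1 : g ^ u ≠ 1 := by
    intro h
    rw [h, one_mul] at huv
    rw [huv] at hv
    exact hv hg
  have hcomm : g ^ v * g ^ u = g ^ u * g ^ v := by rw [← pow_add, ← pow_add, add_comm]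
  have hpF : IsPGroup 5 F5 := IsPGroup.of_card (n := 1) (by rw [card_F5, pow_one])
  obtain ⟨y, hy⟩ := Cfsg.Agent.H859.SylEleven.exists_conj_mem hpF not_dvd_F5 ⟨n, hn⟩
  have hy' : y * g ^ u * y⁻¹ ∈ zpowers f := hy
  have hy1 : y * g ^ u * y⁻¹ ≠ 1 := by
    intro h
    apply ha1
    have h2 : g ^ u = y⁻¹ * (y * g ^ u * y⁻¹) * y := by group
    rw [h2, h]; group
  classical
  obtain ⟨k, hk, hk'⟩ := Finset.mem_image.1 (mem_zpowers_iff_mem_range_orderOf.1 hy')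
  rw [orderOf_f, Finset.mem_range] at hk
  have hk' : f ^ k = y * g ^ u * y⁻¹ := hk'
  have hk0 : k ≠ 0 := by
    rintro rfl
    rw [pow_zero] at hk'
    exact hy1 hk'.symm
  obtain ⟨m, hm⟩ : ∃ m, 2 ^ m * k % 5 = 1 % 5 := by
    interval_cases k
    · exact absurd rfl hk0
    · exact ⟨0, by norm_num⟩
    · exact ⟨3, by norm_num⟩
    · exact ⟨1, by norm_num⟩
    · exact ⟨2, by norm_num⟩
  have hc : IsConj (g ^ u) f := by
    refine isConj_iff.2 ⟨r ^ m * y, ?_⟩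
    have h1 : r ^ m * y * g ^ u * (r ^ m * y)⁻¹ = r ^ m * (y * g ^ u * y⁻¹) * (r ^ m)⁻¹ := by group
    rw [h1, ← hk', r_pow_f, f_pow_mod hm, pow_one]
  obtain ⟨w, hw⟩ := isConj_iff.1 hc
  have h1 : IsConj g (f * (w * g ^ v * w⁻¹)) := by
    refine isConj_iff.2 ⟨w, ?_⟩
    rw [← hw]
    conv_lhs => rw [← huv]
    group
  have h2 : w * g ^ v * w⁻¹ * f = f * (w * g ^ v * w⁻¹) := by
    rw [← hw]
    have e1 : w * g ^ v * w⁻¹ * (w * g ^ u * w⁻¹) = w * (g ^ v * g ^ u) * w⁻¹ := by group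
    have e2 : w * g ^ u * w⁻¹ * (w * g ^ v * w⁻¹) = w * (g ^ u * g ^ v) * w⁻¹ := by group
    rw [e1, e2, hcomm]
  have h3 : ¬ 5 ∣ orderOf (w * g ^ v * w⁻¹) := by
    rwa [← Sv.orderOf_of_conj (isConj_iff.2 ⟨w, rfl⟩ : IsConj (g ^ v) (w * g ^ v * w⁻¹))]
  obtain ⟨h, hh⟩ := spl.exists_eq central h2 h3
  refine ⟨h, ?_⟩
  rw [hh] at h1
  exact h1

theorem exists_quot : ∃ π : J →* Matrix.SpecialLinearGroup (Fin 3) (ZMod 2), Function.Surjective π ∧
    π.ker = Z.subgroupOf J := by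
  obtain ⟨e⟩ := equiv_SL
  refine ⟨e.toMonoidHom.comp πJ, e.surjective.comp πJ_surjective, ?_⟩
  rw [← ker_πJ]
  ext h
  rw [MonoidHom.mem_ker, MonoidHom.mem_ker]
  exact e.map_eq_one_iff

/-- the data -/
noncomputable def D : Data5 𝒢 where
  y := f
  H := J
  V := Z
  n := r

theorem V_cent (h : 𝒢) (hh : h ∈ J) (hc : ∀ v ∈ Z, h * v = v * h) : h ∈ Z := by
  have h1 : (⟨h, hh⟩ : J) ∈ πJ.ker := by
    rw [MonoidHom.mem_ker]
    ext v
    show h * (v : 𝒢) * h⁻¹ = v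
    rw [hc v v.2, mul_inv_cancel_right]
  rw [ker_πJ] at h1
  exact h1

/-- **the elements of `J₄` of order divisible by 5** -/
theorem five : Five D where
  ord_y := orderOf_f
  card_H := card_J
  card_V := card_Z
  V_le := Z_le_J
  V_sq := oct_Z.sq
  V_comm := fun v hv w hw => oct_Z.comm hv hw
  V_norm := fun h hh v hv => (mem_normalizer_iff.1 (J_le_norm hh) v).1 hv
  V_cent := V_cent
  quot := exists_quot
  comm := comm_f
  form := form
  card_cent := card_cent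
  ord := ord_mul
  conj_iff := fun h h' => spl.conj_iff
  n_y := r_f
  n_mod := mod_J
  exhaust := exhaust

/-! ### the relation between 5 and 7 -/

/-- a 5-cycle -/
theorem psi_σf : Sv.psi σf = f := by
  have h := Sv.psi_of f_mem
  have h1 : pI ⟨f, f_mem⟩ = σf := by
    have := act_f
    exact p5_eq this
  rw [h1] at h
  exact h

end Fv

end Cfsg.Agent.H265.J4LP
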