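import Mathlib

/-!
# S4819, S4820: the elements of order divisible by 11 in a group like `J₄`, data (helper265)

No model of `J₄` is used here.
-/

set_option autoImplicit false

namespace Cfsg.Agent.H265.J4LP

open Subgroup

/-- the group `SL(2,3)` -/
abbrev SL : Type := Matrix.SpecialLinearGroup (Fin 2) (ZMod 3)

/-- an element of order 3 -/
def sy : SL := ⟨!![1, 1; 0, 1], by decide⟩
/-- an element of order 4 -/
def si : SL := ⟨!![0, 1; 2, 0], by decide⟩
/-- conjugation with the swap matrix -/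
def sw (s : SL) : SL := ⟨!![s 1 1, s 1 0; s 0 1, s 0 0], by
  have h := s.2
  rw [Matrix.det_fin_two] at h
  rw [Matrix.det_fin_two_of]
  linear_combination h⟩

/-- the elements and the local subgroups -/
structure Data11 (G : Type*) [Group G] where
  z : G
  x : G
  t : G
  P : Subgroup G
  phi : SL →* G

/-- representatives of the classes of elements of order divisible by 11 : orders
11, 11, 22, 22, 33, 33, 44, 66, 66 -/
def Data11.rep {G : Type*} [Group G] (D : Data11 G) : Fin 9 → G :=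
  ![D.z, D.x, D.z * D.phi (-1), D.x * D.t, D.z * D.phi sy, D.z * D.phi sy⁻¹, D.z * D.phi si, D.z * D.phi (-sy),
    D.z * D.phi (-sy)⁻¹]

/-- the facts -/
structure Eleven {G : Type*} [Group G] (D : Data11 G) : Prop where
  card_P : Nat.card D.P = 1331
  ord_z : orderOf D.z = 11
  ord_x : orderOf D.x = 11
  ord_t : orderOf D.t = 2
  z_mem : D.z ∈ D.P
  x_mem : D.x ∈ D.P
  x_notMem : D.x ∉ zpowers D.z
  z_comm : ∀ u ∈ D.P, D.z * u = u * D.z
  conj_z : ∀ u ∈ zpowers D.z, u ≠ 1 → IsConj u D.z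
  conj_x : ∀ u ∈ D.P, u ∉ zpowers D.z → IsConj u D.x
  z_phi : ∀ s, D.z * D.phi s = D.phi s * D.z
  phi_inj : Function.Injective D.phi
  x_t : D.x * D.t = D.t * D.x
  norm_P : ∀ s, ∀ u ∈ D.P, D.phi s * u * (D.phi s)⁻¹ ∈ D.P
  pow_sq : ∀ s, ∀ k ∈ [1, 3, 4, 5, 9], IsConj (D.z ^ k * D.phi s) (D.z * D.phi s)
  pow_nsq : ∀ s, ∀ k ∈ [2, 6, 7, 8, 10], IsConj (D.z ^ k * D.phi s) (D.z * D.phi (sw s))
  pow_xt : ∀ k, ¬ 11 ∣ k → IsConj (D.x ^ k * D.t) (D.x * D.t)
  pow_x : ∀ k, ¬ 11 ∣ k → IsConj (D.x ^ k) D.x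
  card_cent : ∀ j, Nat.card (centralizer ({D.rep j} : Set G)) =
    (![31944, 242, 264, 22, 66, 66, 44, 66, 66] : Fin 9 → ℕ) j
  ord_rep : ∀ j, orderOf (D.rep j) = (![11, 11, 22, 22, 33, 33, 44, 66, 66] : Fin 9 → ℕ) j
  conj_iff : ∀ s s', IsConj (D.z * D.phi s) (D.z * D.phi s') ↔ IsConj s s'
  rep_inj : ∀ i j, IsConj (D.rep i) (D.rep j) → i = j
  exhaust : ∀ g : G, 11 ∣ orderOf g → ∃ j, IsConj g (D.rep j)

/-! ### classes of `SL(2,3)` -/

theorem classes_SL : ∀ s : SL, s = 1 ∨ s = -1 ∨ (∃ g : SL, g * s * g⁻¹ = si) ∨ (∃ g : SL, g * s * g⁻¹ = sy) ∨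
    (∃ g : SL, g * s * g⁻¹ = sy⁻¹) ∨ (∃ g : SL, g * s * g⁻¹ = -sy) ∨ (∃ g : SL, g * s * g⁻¹ = (-sy)⁻¹) := by
  decide +kernel

theorem cc_neg : (Finset.univ.filter fun g : SL => g * (-1) = (-1) * g).card = 24 := by decide +kernel
theorem cc_si : (Finset.univ.filter fun g : SL => g * si = si * g).card = 4 := by decide +kernel
theorem cc_sy : (Finset.univ.filter fun g : SL => g * sy = sy * g).card = 6 := by decide +kernel
theorem cc_syi : (Finset.univ.filter fun g : SL => g * sy⁻¹ = sy⁻¹ * g).card = 6 := by decide +kernel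
theorem cc_nsy : (Finset.univ.filter fun g : SL => g * (-sy) = (-sy) * g).card = 6 := by decide +kernel
theorem cc_nsyi : (Finset.univ.filter fun g : SL => g * (-sy)⁻¹ = (-sy)⁻¹ * g).card = 6 := by decide +kernel

theorem card_cent_SL {s : SL} {n : ℕ} (h : (Finset.univ.filter fun g : SL => g * s = s * g).card = n) :
    Nat.card (centralizer ({s} : Set SL)) = n := by
  rw [← h, ← Fintype.card_subtype, ← Nat.card_eq_fintype_card]
  exact Nat.card_congr (Equiv.subtypeEquivRight fun g => mem_centralizer_singleton_iff)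

theorem nc_sy : ∀ g : SL, g * sy * g⁻¹ ≠ sy⁻¹ := by decide +kernel
theorem nc_nsy : ∀ g : SL, g * (-sy) * g⁻¹ ≠ (-sy)⁻¹ := by decide +kernel

theorem ord_SL : orderOf (-1 : SL) = 2 ∧ orderOf si = 4 ∧ orderOf sy = 3 ∧ orderOf (-sy) = 6 := by
  refine ⟨?_, ?_, ?_, ?_⟩
  · exact orderOf_eq_prime (by decide +kernel) (by decide +kernel)
  · have h := orderOf_eq_prime_pow (p := 2) (n := 1) (x := si) (by decide +kernel) (by decide +kernel)
    exact h
  · exact orderOf_eq_prime (by decide +kernel) (by decide +kernel)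
  · rw [orderOf_eq_iff (by norm_num)]
    exact ⟨by decide +kernel, by decide +kernel⟩

end Cfsg.Agent.H265.J4LP
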