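import Cfsg.Agent.H859.ClassEleven
import Cfsg.Agent.H858.Abs
import Cfsg.Agent.Solvable.Hall

/-!
# Centralizers of the form `P ⋊ K` and `p`-parts of elements (helper265)

`Spl p z P φ` : `z` has order `p`, `C(z) = P ⋊ φ(K)`, `P` a `p`-group, `p` does not divide `|K|`.
* `Spl.conj_iff` : `z φ(s) ~ z φ(s')` iff `s ~ s'` in `K`;
* `Spl.card_cent` : `|C(z φ(s))| = |C_P(φ(s))| |C_K(s)|`;
* `Spl.exists_conj` (`K` solvable), `Spl.exists_conj'` (`P` central) : elements commuting with `z`.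
-/

set_option autoImplicit false
set_option linter.unusedSectionVars false

namespace Cfsg.Agent.H265.J4LP

open Subgroup

variable {G : Type*} [Group G]

theorem exists_parts [Finite G] {p : ℕ} (hp : p.Prime) (g : G) :
    ∃ u v : ℕ, g ^ u * g ^ v = g ∧ (∃ n, (g ^ u) ^ p ^ n = 1) ∧ ¬ p ∣ orderOf (g ^ v) := by
  have hN : orderOf g ≠ 0 := (orderOf_pos g).ne'
  obtain ⟨e, m, hm, hN'⟩ := Nat.exists_eq_pow_mul_and_not_dvd hN p hp.ne_one
  have hcop : Nat.Coprime (p ^ e) m := Nat.Coprime.pow_left e ((Nat.Prime.coprime_iff_not_dvd hp).2 hm)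
  obtain ⟨u, hu1, hu2⟩ := Nat.chineseRemainder hcop 1 0
  obtain ⟨v, hv1, hv2⟩ := Nat.chineseRemainder hcop 0 1
  refine ⟨u, v, ?_, ⟨e, ?_⟩, ?_⟩
  · rw [← pow_add]
    have h1 : u + v ≡ 1 [MOD orderOf g] := by
      rw [hN']
      refine (Nat.modEq_and_modEq_iff_modEq_mul hcop).1 ⟨?_, ?_⟩
      · exact (hu1.add hv1).trans (by rfl)
      · exact (hu2.add hv2).trans (by rfl)
    have h2 := (pow_eq_pow_iff_modEq (x := g)).2 h1
    rwa [pow_one] at h2
  · rw [← pow_mul]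
    apply orderOf_dvd_iff_pow_eq_one.1
    rw [hN', mul_comm u]
    exact Nat.mul_dvd_mul_left _ ((Nat.modEq_zero_iff_dvd).1 hu2)
  · intro h
    apply hm
    refine h.trans (orderOf_dvd_of_pow_eq_one ?_)
    rw [← pow_mul]
    apply orderOf_dvd_iff_pow_eq_one.1
    rw [hN']
    exact Nat.mul_dvd_mul_right ((Nat.modEq_zero_iff_dvd).1 hv1) _

variable {K : Type*} [Group K]

structure Spl (p : ℕ) (z : G) (P : Subgroup G) (φ : K →* G) : Prop where
  prime : p.Prime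
  inj : Function.Injective φ
  comm : ∀ s, z * φ s = φ s * z
  ord : orderOf z = p
  pgp : IsPGroup p P
  mem : z ∈ P
  cent : ∀ u ∈ P, z * u = u * z
  norm : centralizer {z} ≤ normalizer (P : Set G)
  card : Nat.card (centralizer ({z} : Set G)) = Nat.card P * Nat.card K
  cop : ¬ p ∣ Nat.card K

namespace Spl

variable [Finite G] {p : ℕ} {z : G} {P : Subgroup G} {φ : K →* G}

theorem finK (h : Spl p z P φ) : Finite K := Finite.of_injective _ h.inj

theorem mem_cent {z g : G} : g ∈ centralizer ({z} : Set G) ↔ g * z = z * g := mem_centralizer_singleton_iff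

theorem phi_mem (h : Spl p z P φ) (s : K) : φ s ∈ centralizer ({z} : Set G) := mem_cent.2 (h.comm s).symm

theorem P_le (h : Spl p z P φ) : P ≤ centralizer ({z} : Set G) := fun u hu => mem_cent.2 (h.cent u hu).symm

theorem cardRange (h : Spl p z P φ) : Nat.card φ.range = Nat.card K :=
  (Nat.card_congr (MonoidHom.ofInjective h.inj).toEquiv).symm

theorem eq_one (h : Spl p z P φ) {k : K} (hk : φ k ∈ P) : k = 1 := by
  have := h.finK
  obtain ⟨n, hn⟩ := h.pgp ⟨φ k, hk⟩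
  have h1 : φ k ^ p ^ n = 1 := congrArg Subtype.val hn
  rw [← map_pow] at h1
  have h2 : k ^ p ^ n = 1 := h.inj (by rw [h1, map_one])
  have h3 := orderOf_dvd_of_pow_eq_one h2
  have h4 : orderOf k ∣ Nat.card K := orderOf_dvd_natCard k
  obtain ⟨i, -, hi⟩ := (Nat.dvd_prime_pow h.prime).1 h3
  rcases Nat.eq_zero_or_pos i with rfl | hi0
  · rw [pow_zero, orderOf_eq_one_iff] at hi
    exact hi
  · exact absurd ((dvd_pow_self p (by omega)).trans (hi ▸ h4)) h.cop

theorem inf_eq (h : Spl p z P φ) : P ⊓ φ.range = ⊥ := by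
  rw [eq_bot_iff]
  rintro _ ⟨h1, ⟨k, rfl⟩⟩
  rw [h.eq_one h1, map_one]
  exact one_mem _

theorem range_le (h : Spl p z P φ) : φ.range ≤ normalizer (P : Set G) := by
  rintro _ ⟨s, rfl⟩
  exact h.norm (h.phi_mem s)

theorem cent_eq (h : Spl p z P φ) : centralizer ({z} : Set G) = P ⊔ φ.range := by
  symm
  apply eq_of_le_of_card_ge
  · refine sup_le h.P_le ?_
    rintro _ ⟨s, rfl⟩
    exact h.phi_mem s
  · rw [h.card, Cfsg.Agent.H858.Abs.card_sup h.range_le h.inf_eq, h.cardRange]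

theorem form (h : Spl p z P φ) {g : G} (hg : g ∈ centralizer ({z} : Set G)) : ∃ u ∈ P, ∃ k, g = u * φ k := by
  rw [h.cent_eq] at hg
  obtain ⟨u, hu, _, ⟨k, rfl⟩, h1⟩ := Cfsg.Agent.H858.Abs.exists_mul_of_mem_sup h.range_le hg
  exact ⟨u, hu, k, h1⟩

theorem uniq (h : Spl p z P φ) {u v : G} (hu : u ∈ P) (hv : v ∈ P) {k l : K} (e : u * φ k = v * φ l) : k = l := by
  have h1 : φ (k * l⁻¹) = u⁻¹ * v := by
    rw [map_mul, map_inv]
    calc φ k * (φ l)⁻¹ = u⁻¹ * (u * φ k) * (φ l)⁻¹ := by group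
      _ = u⁻¹ * (v * φ l) * (φ l)⁻¹ := by rw [e]
      _ = u⁻¹ * v := by group
  have h2 : k * l⁻¹ = 1 := h.eq_one (h1 ▸ P.mul_mem (P.inv_mem hu) hv)
  exact mul_inv_eq_one.1 h2

/-- an element of the centralizer commuting with `φ s`, modulo `P` -/
theorem conj_mod (h : Spl p z P φ) {u : G} (hu : u ∈ P) {k s s' : K}
    (e : u * φ k * φ s * (u * φ k)⁻¹ = φ s') : k * s * k⁻¹ = s' := by
  have h1 : u * (φ (k * s * k⁻¹) * u⁻¹ * (φ (k * s * k⁻¹))⁻¹) * φ (k * s * k⁻¹) = 1 * φ s' := by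
    rw [one_mul, ← e]
    simp only [map_mul, map_inv]
    group
  have h2 : φ (k * s * k⁻¹) * u⁻¹ * (φ (k * s * k⁻¹))⁻¹ ∈ P :=
    (mem_normalizer_iff.1 (h.range_le ⟨_, rfl⟩) _).1 (P.inv_mem hu)
  exact h.uniq (P.mul_mem hu h2) P.one_mem h1

/-- powers recovering `z` -/
theorem pow_z (h : Spl p z P φ) : ∃ n : ℕ, ∀ s : K, (z * φ s) ^ n = z := by
  have := h.finK
  have hc : Nat.Coprime p (Nat.card K) := (Nat.Prime.coprime_iff_not_dvd h.prime).2 h.cop
  obtain ⟨n, hn1, hn2⟩ := Nat.chineseRemainder hc 1 0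
  refine ⟨n, fun s => ?_⟩
  have hcm : Commute z (φ s) := h.comm s
  rw [hcm.mul_pow]
  have h1 : z ^ n = z := by
    have h2 : z ^ n = z ^ 1 := (pow_eq_pow_iff_modEq (x := z)).2 (h.ord.symm ▸ hn1)
    rwa [pow_one] at h2
  have h2 : (φ s) ^ n = 1 := by
    rw [← map_pow]
    have h3 : s ^ n = 1 := by
      apply orderOf_dvd_iff_pow_eq_one.1
      exact (orderOf_dvd_natCard s).trans ((Nat.modEq_zero_iff_dvd).1 hn2)
    rw [h3, map_one]
  rw [h1, h2, mul_one]

theorem comm_of (h : Spl p z P φ) {g : G} {s s' : K} (e : g * (z * φ s) * g⁻¹ = z * φ s') :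
    g * z = z * g ∧ g * φ s * g⁻¹ = φ s' := by
  obtain ⟨n, hn⟩ := h.pow_z
  have h1 : g * z * g⁻¹ = z := by
    have h2 : (g * (z * φ s) * g⁻¹) ^ n = g * (z * φ s) ^ n * g⁻¹ := conj_pow
    rw [e, hn, hn] at h2
    exact h2.symm
  refine ⟨mul_inv_eq_iff_eq_mul.1 h1, ?_⟩
  have h3 : g * (z * φ s) * g⁻¹ = (g * z * g⁻¹) * (g * φ s * g⁻¹) := by group
  rw [e, h1] at h3
  exact (mul_left_cancel h3).symm

theorem conj_iff (h : Spl p z P φ) {s s' : K} : IsConj (z * φ s) (z * φ s') ↔ IsConj s s' := by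
  constructor
  · intro h1
    obtain ⟨g, hg⟩ := isConj_iff.1 h1
    obtain ⟨h2, h3⟩ := h.comm_of hg
    obtain ⟨u, hu, k, rfl⟩ := h.form (mem_cent.2 h2)
    exact isConj_iff.2 ⟨k, h.conj_mod hu h3⟩
  · intro h1
    obtain ⟨k, rfl⟩ := isConj_iff.1 h1
    refine isConj_iff.2 ⟨φ k, ?_⟩
    rw [map_mul, map_mul, map_inv]
    have h2 := h.comm k
    calc φ k * (z * φ s) * (φ k)⁻¹ = (φ k * z) * φ s * (φ k)⁻¹ := by group
      _ = z * (φ k * φ s * (φ k)⁻¹) := by rw [← h2]; group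

theorem mem_cent_mul (h : Spl p z P φ) {g : G} {s : K} : g ∈ centralizer ({z * φ s} : Set G) ↔
    g * z = z * g ∧ g * φ s = φ s * g := by
  constructor
  · intro h1
    have h2 : g * (z * φ s) * g⁻¹ = z * φ s := by rw [mem_cent.1 h1, mul_inv_cancel_right]
    obtain ⟨h3, h4⟩ := h.comm_of h2
    exact ⟨h3, mul_inv_eq_iff_eq_mul.1 h4⟩
  · rintro ⟨h1, h2⟩
    rw [mem_cent, ← mul_assoc, h1, mul_assoc, h2, mul_assoc]

theorem card_cent (h : Spl p z P φ) (s : K) : Nat.card (centralizer ({z * φ s} : Set G)) =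
    Nat.card (P ⊓ centralizer ({φ s} : Set G) : Subgroup G) * Nat.card (centralizer ({s} : Set K)) := by
  have := h.finK
  rw [← Nat.card_prod]
  symm
  refine Nat.card_congr (Equiv.ofBijective (fun x : (P ⊓ centralizer ({φ s} : Set G) : Subgroup G) ×
    centralizer ({s} : Set K) => (⟨(x.1 : G) * φ x.2, ?_⟩ : centralizer ({z * φ s} : Set G))) ⟨?_, ?_⟩)
  · obtain ⟨⟨u, hu⟩, ⟨k, hk⟩⟩ := x
    rw [h.mem_cent_mul]
    have h1 : u * z = z * u := (h.cent u hu.1).symm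
    have h2 : u * φ s = φ s * u := mem_cent.1 hu.2
    have h3 : φ k * z = z * φ k := (h.comm k).symm
    have h4 : φ k * φ s = φ s * φ k := by rw [← map_mul, ← map_mul, mem_cent.1 hk]
    constructor
    · show u * φ k * z = z * (u * φ k)
      rw [mul_assoc, h3, ← mul_assoc, h1, mul_assoc]
    · show u * φ k * φ s = φ s * (u * φ k)
      rw [mul_assoc, h4, ← mul_assoc, h2, mul_assoc]
  · rintro ⟨⟨u, hu⟩, ⟨k, hk⟩⟩ ⟨⟨v, hv⟩, ⟨l, hl⟩⟩ e
    have e' : u * φ k = v * φ l := congrArg Subtype.val e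
    have e2 := h.uniq hu.1 hv.1 e'
    subst e2
    have e3 := mul_right_cancel e'
    subst e3
    rfl
  · rintro ⟨g, hg⟩
    obtain ⟨h1, h2⟩ := h.mem_cent_mul.1 hg
    obtain ⟨u, hu, k, hk⟩ := h.form (mem_cent.2 h1)
    have h3 : u * φ k * φ s * (u * φ k)⁻¹ = φ s := by rw [← hk, h2, mul_inv_cancel_right]
    have h4 := h.conj_mod hu h3
    have h5 : k * s = s * k := mul_inv_eq_iff_eq_mul.1 h4
    have h6 : φ k * φ s = φ s * φ k := by rw [← map_mul, ← map_mul, h5]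
    have h7 : u * φ s = φ s * u := by
      have h8 : u * φ k * φ s = φ s * (u * φ k) := by rw [← hk, h2]
      rw [mul_assoc, h6, ← mul_assoc, ← mul_assoc] at h8
      exact mul_right_cancel h8
    exact ⟨(⟨u, hu, mem_cent.2 h7⟩, ⟨k, mem_cent.2 h5⟩), Subtype.ext hk.symm⟩

/-- `C(z)` is solvable -/
theorem solvable (h : Spl p z P φ) (hK : Group.IsSolvable K) : Group.IsSolvable (centralizer ({z} : Set G)) := by
  have hp : Fact p.Prime := ⟨h.prime⟩
  set D := centralizer ({z} : Set G) with hD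
  have hn : (P.subgroupOf D).Normal := by
    refine ⟨fun x hx g => ?_⟩
    rw [mem_subgroupOf] at hx ⊢
    exact (mem_normalizer_iff.1 (h.norm g.2) _).1 hx
  have h1 : Group.IsSolvable (P.subgroupOf D) := by
    have h2 : IsPGroup p (P.subgroupOf D) := h.pgp.comap_of_injective D.subtype D.subtype_injective
    have h3 : Group.IsNilpotent (P.subgroupOf D) := h2.isNilpotent
    infer_instance
  let ψ : K →* D ⧸ P.subgroupOf D :=
    (QuotientGroup.mk' (P.subgroupOf D)).comp (φ.codRestrict D fun s => h.phi_mem s)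
  have hψ : Function.Surjective ψ := by
    intro q
    obtain ⟨⟨g, hg⟩, rfl⟩ := QuotientGroup.mk_surjective q
    obtain ⟨u, hu, k, hk⟩ := h.form hg
    refine ⟨k, ?_⟩
    show QuotientGroup.mk _ = QuotientGroup.mk _
    rw [QuotientGroup.eq]
    rw [mem_subgroupOf]
    show (φ k)⁻¹ * g ∈ P
    rw [hk]
    have h2 := (mem_normalizer_iff.1 (h.range_le ⟨k⁻¹, rfl⟩) u).1 hu
    rw [map_inv, inv_inv] at h2
    rw [← mul_assoc]
    exact h2
  have h2 : Group.IsSolvable (D ⧸ P.subgroupOf D) := Group.isSolvable_of_surjective hψ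
  exact (Group.isSolvable_iff_subgroup_quotient (P.subgroupOf D)).2 ⟨h1, h2⟩

/-- `p'`-elements commuting with `z`, if `K` is solvable -/
theorem exists_conj (h : Spl p z P φ) (hK : Group.IsSolvable K) {r : G} (hr : r * z = z * r)
    (hp : ¬ p ∣ orderOf r) : ∃ s, IsConj (z * r) (z * φ s) := by
  have hf : Fact p.Prime := ⟨h.prime⟩
  have hsol := h.solvable hK
  set D := centralizer ({z} : Set G) with hD
  obtain ⟨e, he⟩ := IsPGroup.iff_card.1 h.pgp
  have hcop : (Nat.card K).Coprime (Nat.card P) := by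
    rw [he]
    exact (Nat.Coprime.pow_left e ((Nat.Prime.coprime_iff_not_dvd h.prime).2 h.cop)).symm
  have hRD : φ.range ≤ D := by rintro _ ⟨s, rfl⟩; exact h.phi_mem s
  have hc1 : Nat.card (φ.range.subgroupOf D) = Nat.card K := by
    rw [Nat.card_congr (subgroupOfEquivOfLe hRD).toEquiv, h.cardRange]
  set r' : D := ⟨r, mem_cent.2 hr⟩ with hr'
  have hc2 : (Nat.card (zpowers r')).Coprime (Nat.card P) := by
    rw [Nat.card_zpowers, he]
    have h1 : orderOf r' = orderOf r := by rw [hr', Subgroup.orderOf_mk]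
    rw [h1]
    exact (Nat.Coprime.pow_left e ((Nat.Prime.coprime_iff_not_dvd h.prime).2 hp)).symm
  obtain ⟨g, hg⟩ := Cfsg.Agent.Solvable.Hall.hall_conj_le (G := D) (Nat.card K) (Nat.card P)
    (by rw [h.card, mul_comm]) hcop (φ.range.subgroupOf D) (zpowers r') hc1 hc2
  have h2 : g * r' * g⁻¹ ∈ φ.range.subgroupOf D := hg ⟨r', mem_zpowers r', rfl⟩
  rw [mem_subgroupOf] at h2
  obtain ⟨s, hs⟩ := h2
  refine ⟨s, isConj_iff.2 ⟨(g : G), ?_⟩⟩
  have h3 : φ s = (g : G) * r * (g : G)⁻¹ := hs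
  have h4 : (g : G) * z = z * (g : G) := mem_cent.1 g.2
  rw [h3]
  calc (g : G) * (z * r) * (g : G)⁻¹ = ((g : G) * z) * r * (g : G)⁻¹ := by group
    _ = z * ((g : G) * r * (g : G)⁻¹) := by rw [h4]; group

/-- `p'`-elements commuting with `z`, if `P` is central in `C(z)` -/
theorem exists_eq (h : Spl p z P φ) (hP : ∀ u ∈ P, ∀ s, u * φ s = φ s * u) {r : G} (hr : r * z = z * r)
    (hp : ¬ p ∣ orderOf r) : ∃ s, r = φ s := by
  have hf : Fact p.Prime := ⟨h.prime⟩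
  have := h.finK
  obtain ⟨u, hu, k, hk⟩ := h.form (mem_cent.2 hr)
  refine ⟨k, ?_⟩
  have hcm : Commute u (φ k) := hP u hu k
  obtain ⟨n, hn⟩ := h.pgp ⟨u, hu⟩
  have hn' : u ^ p ^ n = 1 := congrArg Subtype.val hn
  -- `u ^ (|r| |K|) = 1`
  have h1 : r ^ (orderOf r * Nat.card K) = 1 := by rw [pow_mul, pow_orderOf_eq_one, one_pow]
  have h2 : (φ k) ^ (orderOf r * Nat.card K) = 1 := by
    rw [mul_comm, pow_mul, ← map_pow, pow_card_eq_one', map_one, one_pow]
  rw [hk, hcm.mul_pow] at h1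
  have h2' : (φ k) ^ (orderOf (u * φ k) * Nat.card K) = 1 := by rw [← hk]; exact h2
  rw [h2', mul_one] at h1
  have h3 := orderOf_dvd_of_pow_eq_one h1
  have h4 := orderOf_dvd_of_pow_eq_one hn'
  obtain ⟨i, -, hi⟩ := (Nat.dvd_prime_pow h.prime).1 h4
  have h5 : i = 0 := by
    by_contra hi0
    have h6 : p ∣ orderOf u := hi ▸ dvd_pow_self p hi0
    rcases (Nat.Prime.dvd_mul h.prime).1 (h6.trans h3) with h7 | h7
    · rw [← hk] at h7; exact hp h7
    · exact h.cop h7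
  rw [h5, pow_zero, orderOf_eq_one_iff] at hi
  rw [hk, hi, one_mul]

end Spl

end Cfsg.Agent.H265.J4LP
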