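import Cfsg.Agent.H265.J4LP.FiveIrr

/-!
# S4819, S4820: products of the columns of 7 and of 5 (helper265)
-/

set_option autoImplicit false

open Cfsg
open scoped ComplexConjugate

namespace Cfsg.Agent.H265.J4LP

open Cfsg.Agent.Characters.Core Cfsg.Agent.H34.TI

universe u

section

variable {G : Type u} [Group G] [Finite G] [Fintype (IrrCharacter G)]

/-- column orthogonality for products without conjugation -/
theorem sum_mul_irr (g h : G) [Decidable (IsConj g h⁻¹)] :
    ∑ χ : IrrCharacter G, (χ : G → ℂ) g * (χ : G → ℂ) h =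
      if IsConj g h⁻¹ then (Nat.card (Subgroup.centralizer ({g} : Set G)) : ℂ) else 0 := by
  classical
  have := Fintype.ofFinite G
  have h1 := S0145.sum_irr_mul_conj g h⁻¹
  have h2 : ∀ χ : IrrCharacter G, (χ : G → ℂ) g * conj ((χ : G → ℂ) h⁻¹) = (χ : G → ℂ) g * (χ : G → ℂ) h := by
    intro χ
    rw [isCharacter_apply_inv (isIrr_isCharacter χ.2), Complex.conj_conj]
  simp only [h2] at h1
  rw [h1]
  split_ifs with hc
  · obtain ⟨c, hc'⟩ := isConj_iff.1 hc
    congr 1
    rw [← hc']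
    refine Nat.card_congr (Equiv.symm ?_)
    refine ⟨fun u => ⟨c * u * c⁻¹, ?_⟩, fun u => ⟨c⁻¹ * u * c, ?_⟩, fun u => ?_, fun u => ?_⟩
    · have h3 := Subgroup.mem_centralizer_singleton_iff.1 u.2
      rw [Subgroup.mem_centralizer_singleton_iff]
      calc c * u * c⁻¹ * (c * g * c⁻¹) = c * (u * g) * c⁻¹ := by group
        _ = c * (g * u) * c⁻¹ := by rw [h3]
        _ = c * g * c⁻¹ * (c * u * c⁻¹) := by group
    · have h3 := Subgroup.mem_centralizer_singleton_iff.1 u.2
      rw [Subgroup.mem_centralizer_singleton_iff]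
      calc c⁻¹ * u * c * g = c⁻¹ * (u * (c * g * c⁻¹)) * c := by group
        _ = c⁻¹ * (c * g * c⁻¹ * u) * c := by rw [h3]
        _ = g * (c⁻¹ * u * c) := by group
    · apply Subtype.ext
      show c⁻¹ * (c * u * c⁻¹) * c = u
      group
    · apply Subtype.ext
      show c * (c⁻¹ * u * c) * c⁻¹ = u
      group
  · rfl

end

/-! ### `S₅` -/

theorem s5_dec : ∀ p : Equiv.Perm (Fin 5), p ^ 5 = 1 → p ≠ 1 → ∀ i, p i ≠ i := by decide +kernel

theorem s5_card : (Finset.univ.filter fun p : Equiv.Perm (Fin 5) => p ^ 5 = 1 ∧ p ≠ 1).card = 24 := by decide +kernel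

theorem s5_conj : ∀ p : Equiv.Perm (Fin 5), p ^ 5 = 1 → p ≠ 1 → ∃ c : Equiv.Perm (Fin 5), c * finRotate 5 = p * c := by
  decide +kernel

theorem s5_ord {p : Equiv.Perm (Fin 5)} : orderOf p = 5 ↔ p ^ 5 = 1 ∧ p ≠ 1 := by
  constructor
  · intro h
    refine ⟨by have := pow_orderOf_eq_one p; rwa [h] at this, ?_⟩
    rintro rfl
    rw [orderOf_one] at h
    norm_num at h
  · rintro ⟨h1, h2⟩
    have : Fact (Nat.Prime 5) := ⟨by norm_num⟩
    exact orderOf_eq_prime h1 h2

/-- the values at 5-cycles -/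
def v5 (a : Fin 7) : ℤ := (![1, 1, -1, -1, 0, 0, 1] : Fin 7 → ℤ) a

theorem fx_zero {p : Equiv.Perm (Fin 5)} (h1 : p ^ 5 = 1) (h2 : p ≠ 1) : fx p = 0 := by
  unfold fx
  rw [Finset.filter_eq_empty_iff.2 fun i _ => s5_dec p h1 h2 i]
  rfl

theorem th5_five {p : Equiv.Perm (Fin 5)} (h : orderOf p = 5) (a : Fin 7) : th5 a p = v5 a := by
  obtain ⟨h1, h2⟩ := s5_ord.1 h
  have e1 : fx p = 0 := fx_zero h1 h2
  have e2 : fx (p * p) = 0 := by
    apply fx_zero
    · rw [← pow_two, ← pow_mul, mul_comm, pow_mul, h1, one_pow]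
    · intro h3
      apply h2
      have h4 : p ^ 5 = p := by
        calc p ^ 5 = (p * p) * (p * p) * p := by simp only [pow_succ, pow_zero, one_mul, mul_assoc]
          _ = p := by rw [h3, one_mul, one_mul]
      rw [← h4, h1]
  have e3 : sg p = 1 := by
    unfold sg
    have h3 : (Equiv.Perm.sign p) ^ 5 = 1 := by rw [← map_pow, h1, map_one]
    rcases Int.units_eq_one_or (Equiv.Perm.sign p) with h4 | h4
    · rw [h4]; rfl
    · rw [h4] at h3
      exact absurd h3 (by decide)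
  unfold th5 v5
  rw [e1, e2, e3]
  fin_cases a <;> simp

theorem s5_dvd {p : Equiv.Perm (Fin 5)} (h : 5 ∣ orderOf p) : orderOf p = 5 := by
  have key : ∀ p : Equiv.Perm (Fin 5), p ^ 5 = 1 ∨ p ^ 12 = 1 := by decide +kernel
  rcases key p with h1 | h1
  · rcases (Nat.dvd_prime (by norm_num)).1 (orderOf_dvd_of_pow_eq_one h1) with h2 | h2
    · rw [h2] at h; norm_num at h
    · exact h2
  · have h2 := h.trans (orderOf_dvd_of_pow_eq_one h1)
    norm_num at h2

theorem card_cent5 {p : Equiv.Perm (Fin 5)} (h : orderOf p = 5) :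
    Nat.card (Subgroup.centralizer ({p} : Set (Equiv.Perm (Fin 5)))) = 5 := by
  obtain ⟨h1, h2⟩ := s5_ord.1 h
  have key : ∀ p : Equiv.Perm (Fin 5), p ^ 5 = 1 → p ≠ 1 →
      (Finset.univ.filter fun q : Equiv.Perm (Fin 5) => q * p = p * q).card = 5 := by decide +kernel
  have h3 := key p h1 h2
  rw [← Fintype.card_subtype, ← Nat.card_eq_fintype_card] at h3
  refine Eq.trans ?_ h3
  exact Nat.card_congr (Equiv.subtypeEquivRight fun q => Subgroup.mem_centralizer_singleton_iff)

/-! ### The products -/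

section Main

variable {G : Type u} [Group G] [Finite G] {D7 : Data7 G} (S : Seven D7) {D5 : Data5 G} (F : Five D5)

include S in
omit [Finite G] in
theorem ord' (p : Equiv.Perm (Fin 5)) : orderOf (D7.y⁻¹ * D7.psi p) = 7 * orderOf p := by
  have h1 := S.ord p⁻¹
  have h2 : D7.y⁻¹ * D7.psi p = (D7.y * D7.psi p⁻¹)⁻¹ := by
    rw [S.comm, mul_inv_rev, ← map_inv, inv_inv]
  rw [h2, orderOf_inv, h1, orderOf_inv]

omit [Finite G] in
theorem orders {p : Equiv.Perm (Fin 5)} {h : D5.H} (e : 7 * orderOf p = 5 * orderOf h) :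
    orderOf p = 5 ∧ orderOf h = 7 := by
  have h1 : 5 ∣ orderOf p := by
    have h2 : 5 ∣ 7 * orderOf p := ⟨_, e⟩
    exact (Nat.Coprime.dvd_mul_left (by norm_num)).1 h2
  have h2 := s5_dvd h1
  rw [h2] at e
  exact ⟨h2, by omega⟩

include S in
omit [Finite G] in
theorem conj' {p q : Equiv.Perm (Fin 5)} (h : IsConj p q) : IsConj (D7.y⁻¹ * D7.psi p) (D7.y⁻¹ * D7.psi q) := by
  have h0 : IsConj p⁻¹ q⁻¹ := by
    obtain ⟨c, hc⟩ := isConj_iff.1 h
    rw [isConj_iff]
    exact ⟨c, by rw [← hc]; group⟩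
  have h1 := (S.conj_iff p⁻¹ q⁻¹).2 h0
  obtain ⟨c, hc⟩ := isConj_iff.1 h1
  have h2 : ∀ p, D7.y⁻¹ * D7.psi p = (D7.y * D7.psi p⁻¹)⁻¹ := by
    intro p
    rw [S.comm, mul_inv_rev, ← map_inv, inv_inv]
  rw [h2, h2, isConj_iff]
  exact ⟨c, by rw [← hc]; group⟩

theorem conj_five {p q : Equiv.Perm (Fin 5)} (hp : orderOf p = 5) (hq : orderOf q = 5) : IsConj p q := by
  obtain ⟨a1, a2⟩ := s5_ord.1 hp
  obtain ⟨b1, b2⟩ := s5_ord.1 hq
  obtain ⟨c, hc⟩ := s5_conj p a1 a2
  obtain ⟨d, hd⟩ := s5_conj q b1 b2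
  have h1 : IsConj (finRotate 5) p := isConj_iff.2 ⟨c, by rw [hc, mul_inv_cancel_right]⟩
  have h2 : IsConj (finRotate 5) q := isConj_iff.2 ⟨d, by rw [hd, mul_inv_cancel_right]⟩
  exact h1.symm.trans h2

variable [Fintype (IrrCharacter G)]

include S F in
theorem key [DecidableEq D5.H] (p : Equiv.Perm (Fin 5)) (h : D5.H) :
    ∑ χ : IrrCharacter G, ((χ : G → ℂ) (D7.y * D7.psi p) + (χ : G → ℂ) (D7.y⁻¹ * D7.psi p)) *
      (χ : G → ℂ) (D5.y * (h : G)) = if orderOf p = 5 ∧ orderOf h = 7 then 35 else 0 := by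
  classical
  simp only [add_mul]
  rw [Finset.sum_add_distrib, sum_mul_irr, sum_mul_irr]
  have o1 := S.ord p
  have o2 := ord' S p
  have o3 : orderOf (D5.y * (h : G))⁻¹ = 5 * orderOf h := by rw [orderOf_inv, F.ord]
  have oc : ∀ {x y : G}, IsConj x y → orderOf x = orderOf y := by
    intro x y hxy
    obtain ⟨c, rfl⟩ := isConj_iff.1 hxy
    exact ((MulAut.conj c).orderOf_eq x).symm
  by_cases hh : orderOf p = 5 ∧ orderOf h = 7
  · rw [if_pos hh]
    have c1 : Nat.card (Subgroup.centralizer ({D7.y * D7.psi p} : Set G)) = 35 := by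
      rw [S.card_cent, card_cent5 hh.1]
    have c2 : Nat.card (Subgroup.centralizer ({D7.y⁻¹ * D7.psi p} : Set G)) = 35 := by
      rw [S.card_cent', card_cent5 hh.1]
    obtain ⟨q, hq⟩ := S.exhaust (D5.y * (h : G))⁻¹ (by rw [o3, hh.2]; norm_num)
    have hq5 : orderOf q = 5 := by
      rcases hq with hq | hq
      · have := oc hq
        rw [o3, S.ord, hh.2] at this
        omega
      · have := oc hq
        rw [o3, ord' S, hh.2] at this
        omega
    have hpq := conj_five hh.1 hq5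
    rcases hq with hq | hq
    · have h1 : IsConj (D7.y * D7.psi p) (D5.y * (h : G))⁻¹ := ((S.conj_iff p q).2 hpq).trans hq.symm
      have h2 : ¬ IsConj (D7.y⁻¹ * D7.psi p) (D5.y * (h : G))⁻¹ :=
        fun h3 => S.not_conj p p (h1.trans h3.symm)
      rw [if_pos h1, if_neg h2, c1]
      norm_num
    · have h1 : IsConj (D7.y⁻¹ * D7.psi p) (D5.y * (h : G))⁻¹ := (conj' S hpq).trans hq.symm
      have h2 : ¬ IsConj (D7.y * D7.psi p) (D5.y * (h : G))⁻¹ :=
        fun h3 => S.not_conj p p (h3.trans h1.symm)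
      rw [if_neg h2, if_pos h1, c2]
      norm_num
  · rw [if_neg hh]
    have h1 : ¬ IsConj (D7.y * D7.psi p) (D5.y * (h : G))⁻¹ := by
      intro h3
      have := oc h3
      rw [o1, o3] at this
      exact hh (orders this)
    have h2 : ¬ IsConj (D7.y⁻¹ * D7.psi p) (D5.y * (h : G))⁻¹ := by
      intro h3
      have := oc h3
      rw [o2, o3] at this
      exact hh (orders this)
    rw [if_neg h1, if_neg h2, add_zero]

/-- the values at elements of order 7 -/
def w7 (b : Fin 9) : ℤ := (![2, -1, -1, -2, 0, 2, 0, 0, 0] : Fin 9 → ℤ) b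

include S F in
/-- **the products of the columns of 7 and of 5** -/
theorem cross (th : Fin 11 → IrrCharacter D5.H) (I : IrrH D5.H th)
    (h384 : Nat.card {h : D5.H // orderOf h = 7} = 384) {s : Fin 7 → IrrCharacter G → ℤ}
    {t : Fin 9 → IrrCharacter G → ℤ} (C7 : Cols7 D7.y D7.psi s) (C5 : Cols5 D5.y D5.H th t) : Cross s t := by
  classical
  intro a b
  have := Fintype.ofFinite D5.H
  let A : Equiv.Perm (Fin 5) → ℂ := fun p => (th5 a p : ℂ) / 120
  let B : Fin 11 → D5.H → ℂ := fun i h => conj ((th i : D5.H → ℂ) h) / 1344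
  have hs : ∀ χ, (s a χ : ℂ) = ∑ p, A p * ((χ : G → ℂ) (D7.y * D7.psi p) + (χ : G → ℂ) (D7.y⁻¹ * D7.psi p)) :=
    fun χ => C7.supp a χ
  have ht : ∀ χ, (t b χ : ℂ) = ∑ i ∈ grp b, ∑ h, B i h * (χ : G → ℂ) (D5.y * (h : G)) := by
    intro χ
    rw [C5.supp b χ]
    refine Finset.sum_congr rfl fun i _ => ?_
    convert rfl
  -- the two factors
  have hA : ∑ p, (if orderOf p = 5 then A p else 0) = (v5 a : ℂ) / 5 := by
    have h1 : ∀ p, (if orderOf p = 5 then A p else 0) = if (p ^ 5 = 1 ∧ p ≠ 1) then (v5 a : ℂ) / 120 else 0 := by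
      intro p
      by_cases hp : orderOf p = 5
      · rw [if_pos hp, if_pos (s5_ord.1 hp)]
        show (th5 a p : ℂ) / 120 = _
        rw [th5_five hp]
      · rw [if_neg hp, if_neg (fun h => hp (s5_ord.2 h))]
    simp only [h1]
    rw [← Finset.sum_filter, Finset.sum_const, s5_card]
    norm_num
    ring
  have hB : ∑ i ∈ grp b, ∑ h, (if orderOf h = 7 then B i h else 0) = (w7 b : ℂ) / 7 := by
    have h1 : ∑ i ∈ grp b, ∑ h, (if orderOf h = 7 then B i h else 0) =
        (∑ h : D5.H, if orderOf h = 7 then conj (∑ i ∈ grp b, (th i : D5.H → ℂ) h) else 0) / 1344 := by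
      rw [Finset.sum_comm, Finset.sum_div]
      refine Finset.sum_congr rfl fun h _ => ?_
      split_ifs with ho
      · rw [map_sum, Finset.sum_div]
      · simp
    have h2 : (∑ h : D5.H, if orderOf h = 7 then conj (∑ i ∈ grp b, (th i : D5.H → ℂ) h) else 0) =
        ∑ h : D5.H, if orderOf h = 7 then conj (∑ i ∈ grp b, (th i : D5.H → ℂ) h⁻¹) else 0 := by
      refine Fintype.sum_equiv (Equiv.inv D5.H) _ _ fun h => ?_
      simp only [Equiv.inv_apply, orderOf_inv, inv_inv]
    have h3 : 2 * (∑ h : D5.H, if orderOf h = 7 then conj (∑ i ∈ grp b, (th i : D5.H → ℂ) h) else 0) =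
        384 * (w7 b : ℂ) := by
      rw [two_mul]
      nth_rewrite 2 [h2]
      rw [← Finset.sum_add_distrib]
      have h4 : ∀ h : D5.H, ((if orderOf h = 7 then conj (∑ i ∈ grp b, (th i : D5.H → ℂ) h) else 0) +
          if orderOf h = 7 then conj (∑ i ∈ grp b, (th i : D5.H → ℂ) h⁻¹) else 0) =
          if orderOf h = 7 then (w7 b : ℂ) else 0 := by
        intro h
        by_cases ho : orderOf h = 7
        · rw [if_pos ho, if_pos ho, if_pos ho, ← map_add, ← Finset.sum_add_distrib, I.seven h ho b]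
          show conj ((w7 b : ℤ) : ℂ) = _
          exact map_intCast _ _
        · rw [if_neg ho, if_neg ho, if_neg ho, add_zero]
      simp only [h4]
      rw [← Finset.sum_filter, Finset.sum_const, ← Fintype.card_subtype, ← Nat.card_eq_fintype_card, h384]
      simp
    rw [h1]
    have h5 : (∑ h : D5.H, if orderOf h = 7 then conj (∑ i ∈ grp b, (th i : D5.H → ℂ) h) else 0) =
        192 * (w7 b : ℂ) := by linear_combination h3 / 2
    rw [h5]
    ring
  have hfin : ((∑ χ, s a χ * t b χ : ℤ) : ℂ) = ((v5 a * w7 b : ℤ) : ℂ) := by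
    push_cast
    calc ∑ χ, (s a χ : ℂ) * (t b χ : ℂ)
        = ∑ χ : IrrCharacter G, ∑ p, ∑ i ∈ grp b, ∑ h, (A p * B i h) *
            (((χ : G → ℂ) (D7.y * D7.psi p) + (χ : G → ℂ) (D7.y⁻¹ * D7.psi p)) * (χ : G → ℂ) (D5.y * (h : G))) := by
          refine Finset.sum_congr rfl fun χ _ => ?_
          rw [hs, ht, Finset.sum_mul]
          refine Finset.sum_congr rfl fun p _ => ?_
          rw [Finset.mul_sum]
          refine Finset.sum_congr rfl fun i _ => ?_
          rw [Finset.mul_sum]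
          refine Finset.sum_congr rfl fun h _ => ?_
          ring
      _ = ∑ p, ∑ i ∈ grp b, ∑ h : D5.H, (A p * B i h) * ∑ χ : IrrCharacter G,
            (((χ : G → ℂ) (D7.y * D7.psi p) + (χ : G → ℂ) (D7.y⁻¹ * D7.psi p)) * (χ : G → ℂ) (D5.y * (h : G))) := by
          rw [Finset.sum_comm]
          refine Finset.sum_congr rfl fun p _ => ?_
          rw [Finset.sum_comm]
          refine Finset.sum_congr rfl fun i _ => ?_
          rw [Finset.sum_comm]
          refine Finset.sum_congr rfl fun h _ => ?_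
          rw [Finset.mul_sum]
      _ = ∑ p, ∑ i ∈ grp b, ∑ h : D5.H, ((if orderOf p = 5 then A p else 0) *
            (if orderOf h = 7 then B i h else 0)) * 35 := by
          refine Finset.sum_congr rfl fun p _ => Finset.sum_congr rfl fun i _ => Finset.sum_congr rfl fun h _ => ?_
          rw [key S F]
          by_cases h1 : orderOf p = 5
          · by_cases h2 : orderOf h = 7
            · rw [if_pos ⟨h1, h2⟩, if_pos h1, if_pos h2]
            · rw [if_neg (fun h => h2 h.2), if_neg h2]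
              simp
          · rw [if_neg (fun h => h1 h.1), if_neg h1]
            simp
      _ = (∑ p, (if orderOf p = 5 then A p else 0)) *
            (∑ i ∈ grp b, ∑ h, (if orderOf h = 7 then B i h else 0)) * 35 := by
          rw [Finset.sum_mul, Finset.sum_mul]
          refine Finset.sum_congr rfl fun p _ => ?_
          rw [Finset.mul_sum, Finset.sum_mul]
          refine Finset.sum_congr rfl fun i _ => ?_
          rw [Finset.mul_sum, Finset.sum_mul]
      _ = (v5 a : ℂ) * (w7 b : ℂ) := by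
          rw [hA, hB]
          ring
  exact_mod_cast hfin

end Main

/-! ### The instance -/

namespace Fv

open Cfsg.Agent.H858.Loc5

theorem ord_sJ : orderOf sJ = 7 := by
  rw [← Subgroup.orderOf_coe]
  exact orderOf_s

theorem nc_inv : ¬ IsConj sJ sJ⁻¹ := by
  have h7 : xJ 7 = sJ := eJ_s
  have h8 : xJ 8 = sJ⁻¹ := by
    show PC.ev [sJ, jJ, sJ⁻¹, jJ⁻¹] [2] = sJ⁻¹
    rw [PC.ev_cons, PC.ev_nil, mul_one]
    rfl
  intro h
  rw [← h8] at h
  nth_rewrite 1 [← h7] at h
  exact absurd (xJ_inj 7 8 h) (by decide)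

theorem card_cls {x : J} (ho : orderOf x = 7) : Nat.card {y : J // IsConj x y} = 192 := by
  have h1 := Cfsg.Agent.H180.KM11.card_class_mul x
  rw [card_cent_seven x ho, card_J] at h1
  omega

theorem card_seven : Nat.card {h : J // orderOf h = 7} = 384 := by
  have oc : ∀ {x y : J}, IsConj x y → orderOf x = orderOf y := by
    intro x y hxy
    obtain ⟨c, rfl⟩ := isConj_iff.1 hxy
    exact ((MulAut.conj c).orderOf_eq x).symm
  have o2 : orderOf sJ⁻¹ = 7 := by rw [orderOf_inv, ord_sJ]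
  have h1 : Nat.card ({y : J // IsConj sJ y} ⊕ {y : J // IsConj sJ⁻¹ y}) = 384 := by
    rw [Nat.card_sum, card_cls ord_sJ, card_cls o2]
  rw [← h1]
  symm
  refine Nat.card_congr (Equiv.ofBijective (fun z => match z with
    | .inl y => ⟨y.1, (oc y.2).symm.trans ord_sJ⟩
    | .inr y => ⟨y.1, (oc y.2).symm.trans o2⟩) ⟨?_, ?_⟩)
  · rintro (a | a) (b | b) hab
    · have h2 : (a : J) = b := congrArg (fun z : {h : J // orderOf h = 7} => (z : J)) hab
      exact congrArg Sum.inl (Subtype.ext h2)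
    · exfalso
      have h2 : (a : J) = b := congrArg Subtype.val hab
      exact nc_inv (a.2.trans (h2 ▸ b.2.symm))
    · exfalso
      have h2 : (a : J) = b := congrArg Subtype.val hab
      exact nc_inv (b.2.trans (h2 ▸ a.2.symm))
    · have h2 : (a : J) = b := congrArg (fun z : {h : J // orderOf h = 7} => (z : J)) hab
      exact congrArg Sum.inr (Subtype.ext h2)
  · rintro ⟨h, ho⟩
    rcases conj_seven h ho with hc | hc
    · exact ⟨.inl ⟨h, hc⟩, rfl⟩
    · exact ⟨.inr ⟨h, hc⟩, rfl⟩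

instance : Finite Cfsg.Spor.J4 := Cfsg.Agent.H858.FixJ4.facts.1

/-- **`Cross` for `J₄`** -/
theorem cross_J4 [Fintype (IrrCharacter Cfsg.Spor.J4)] {th : Fin 11 → IrrCharacter D.H} (I : IrrH D.H th)
    {s : Fin 7 → IrrCharacter Cfsg.Spor.J4 → ℤ} {t : Fin 9 → IrrCharacter Cfsg.Spor.J4 → ℤ}
    (C7 : Cols7 Sv.D.y Sv.D.psi s) (C5 : Cols5 D.y D.H th t) : Cross s t :=
  cross Sv.seven five th I card_seven C7 C5

end Fv

end Cfsg.Agent.H265.J4LP
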