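import Cfsg.Agent.H265.J4LP.ElevenCheck
import Cfsg.Agent.H265.J4LP.Abs
import Cfsg.Agent.H265.J4LP.Defs

/-!
# S4819, S4820: the elements of `J₄` of order divisible by 11 (helper265)

`z = NU.c`, `P = NU.U`, `phi : SL(2,3) →* J₄`, `C(z) = P ⋊ phi(SL(2,3))`; `x ∈ P` noncentral, `t` an involution of `C(x)`.
-/

set_option autoImplicit false

namespace Cfsg.Agent.H265.J4LP.El

open Cfsg.Agent.Lib.F2MatGroup Cfsg.Agent.J4.Rep112 Cfsg.Agent.H859.NUData
open Cfsg.Agent.H859.PGLWords (check_J4 evG_append)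
open Cfsg.Agent.SporadicStructure.M11InvCore (T W ev exists_word)
open Cfsg.Agent.H859
open Subgroup

local notation "𝒢" => Cfsg.Spor.J4

theorem card_SL : Nat.card SL = 24 := by
  rw [Nat.card_eq_fintype_card]
  decide +kernel

/-! ### the action on `c` -/

theorem evJ_c (l : List Bool) : ((ev l).det = 1 ∧ NU.evJ l * NU.c * (NU.evJ l)⁻¹ = NU.c) ∨
    ((ev l).det = -1 ∧ NU.evJ l * NU.c * (NU.evJ l)⁻¹ = NU.c⁻¹) := by
  have hA : NU.A * NU.c * NU.A⁻¹ = NU.c := by
    have h := NU.A_c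
    simpa using h
  have hB : NU.B * NU.c * NU.B⁻¹ = NU.c⁻¹ := by
    have h := NU.B_c
    rw [pow_zero, pow_zero, one_mul, one_mul] at h
    rw [h, eq_inv_iff_mul_eq_one, ← pow_succ]
    exact NU.rel.wp
  have hBi : NU.B * NU.c⁻¹ * NU.B⁻¹ = NU.c := by
    have h := congrArg (·⁻¹) hB
    simp only [mul_inv_rev, inv_inv] at h
    rw [mul_assoc]; exact h
  have hAi : NU.A * NU.c⁻¹ * NU.A⁻¹ = NU.c⁻¹ := by
    have h := congrArg (·⁻¹) hA
    simp only [mul_inv_rev, inv_inv] at h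
    rw [mul_assoc]; exact h
  induction l with
  | nil =>
    left
    refine ⟨Matrix.det_one, ?_⟩
    show (1 : 𝒢) * NU.c * 1⁻¹ = NU.c
    group
  | cons b l ih =>
    have e : ∀ g : 𝒢, g * NU.evJ l * NU.c * (g * NU.evJ l)⁻¹ = g * (NU.evJ l * NU.c * (NU.evJ l)⁻¹) * g⁻¹ := by
      intro g; group
    cases b
    · have hd : (ev (false :: l)).det = -(ev l).det := by
        show (W * ev l).det = _
        rw [Matrix.det_mul, show W.det = -1 by decide +kernel, neg_one_mul]
      have he : NU.evJ (false :: l) = NU.B * NU.evJ l := rfl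
      rw [hd, he, e]
      rcases ih with ⟨h1, h2⟩ | ⟨h1, h2⟩
      · right; rw [h1, h2, hB]; exact ⟨rfl, rfl⟩
      · left; rw [h1, h2, hBi, neg_neg]; exact ⟨rfl, rfl⟩
    · have hd : (ev (true :: l)).det = (ev l).det := by
        show (T * ev l).det = _
        rw [Matrix.det_mul, show T.det = 1 by decide +kernel, one_mul]
      have he : NU.evJ (true :: l) = NU.A * NU.evJ l := rfl
      rw [hd, he, e]
      rcases ih with ⟨h1, h2⟩ | ⟨h1, h2⟩
      · left; rw [h1, h2, hA]; exact ⟨rfl, rfl⟩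
      · right; rw [h1, h2, hAi]; exact ⟨rfl, rfl⟩

theorem hom_evJ (g : GL (Fin 2) (ZMod 3)) : ∃ l, ev l = (g : Matrix (Fin 2) (Fin 2) (ZMod 3)) ∧ NU.hom g = NU.evJ l :=
  NU.exists_ev g

theorem hom_c {g : GL (Fin 2) (ZMod 3)} (hg : (g : Matrix (Fin 2) (Fin 2) (ZMod 3)).det = 1) :
    NU.hom g * NU.c * (NU.hom g)⁻¹ = NU.c := by
  obtain ⟨l, h1, h2⟩ := hom_evJ g
  rcases evJ_c l with ⟨h3, h4⟩ | ⟨h3, h4⟩
  · rw [h2, h4]
  · exfalso
    rw [h1, hg] at h3
    exact absurd h3 (by decide)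

/-! ### the embedding of `SL(2,3)` -/

/-- the embedding -/
noncomputable def phi : SL →* 𝒢 := NU.hom.comp Matrix.SpecialLinearGroup.toGL

theorem phi_injective : Function.Injective phi :=
  NU.hom_injective.comp Matrix.SpecialLinearGroup.toGL_injective

theorem phi_apply (s : SL) : phi s = NU.gm (s : Matrix (Fin 2) (Fin 2) (ZMod 3)) := rfl

theorem phi_c (s : SL) : NU.c * phi s = phi s * NU.c := by
  have h : phi s * NU.c * (phi s)⁻¹ = NU.c := hom_c s.2
  exact (mul_inv_eq_iff_eq_mul.1 h).symm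

/-- the central element of order 11 -/
noncomputable def z : 𝒢 := NU.c

theorem card_P : Nat.card NU.U = 1331 := NU.card_U

theorem spl : Spl 11 z NU.U phi where
  prime := by norm_num
  inj := phi_injective
  comm := phi_c
  ord := ClassEleven.orderOf_c
  pgp := SylEleven.isPGroup_U
  mem := SylEleven.c_mem
  cent := fun u hu => Heis.w_comm NU.rel hu
  norm := CentC.D_le
  card := by
    rw [card_P, card_SL]
    exact CentC.card_D
  cop := by rw [card_SL]; norm_num

/-! ### fixed points of `phi s` in `P` -/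

theorem eqX {v w : List ℕ} (h : (v, w) ∈ esX) : evG NU.L v = evG NU.L w := (check_J4 checkX).1 _ h
theorem neX {v w : List ℕ} (h : (v, w) ∈ [(xw, []), ([iB], [])]) : evG NU.L v ≠ evG NU.L w := (check_J4 checkX).2 _ h

/-- the element `x` -/
noncomputable def x : 𝒢 := NU.a * (NU.b ^ 7 * NU.c ^ 9)

theorem ev_xw : evG NU.L xw = x := by
  unfold xw x
  rw [evG_cons, evG_append, NU.ev_pow, NU.ev_pow]
  rfl

/-- the involution `t` commuting with `x` -/
noncomputable def t : 𝒢 := NU.B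

/-- the involution of `SL(2,3)` in `J₄` -/
theorem phi_neg : phi (-1) = getG NU.L 1 := by
  rw [phi_apply]
  unfold NU.gm
  congr 1

theorem ev1 (i : ℕ) : evG NU.L [i] = getG NU.L i := by rw [evG_cons, evG_nil, mul_one]
theorem ev2 (i j : ℕ) : evG NU.L [i, j] = getG NU.L i * getG NU.L j := by rw [evG_cons, ev1]
theorem ev3 (i j k : ℕ) : evG NU.L [i, j, k] = getG NU.L i * (getG NU.L j * getG NU.L k) := by rw [evG_cons, ev2]

theorem neg_a : phi (-1) * NU.a * (phi (-1))⁻¹ = NU.a⁻¹ := by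
  have h := eqX (v := [1, ia]) (w := List.replicate 10 ia ++ [1]) (by decide +kernel)
  rw [ev2, evG_append, NU.ev_pow, ev1, ← phi_neg] at h
  have h1 : phi (-1) * NU.a * (phi (-1))⁻¹ = NU.a ^ 10 := mul_inv_eq_iff_eq_mul.2 h
  rw [h1, eq_inv_iff_mul_eq_one, ← pow_succ]
  exact NU.rel.ap

theorem neg_b : phi (-1) * NU.b * (phi (-1))⁻¹ = NU.b⁻¹ := by
  have h := eqX (v := [1, ib]) (w := List.replicate 10 ib ++ [1]) (by decide +kernel)
  rw [ev2, evG_append, NU.ev_pow, ev1, ← phi_neg] at h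
  have h1 : phi (-1) * NU.b * (phi (-1))⁻¹ = NU.b ^ 10 := mul_inv_eq_iff_eq_mul.2 h
  rw [h1, eq_inv_iff_mul_eq_one, ← pow_succ]
  exact NU.rel.bp

/-- commutators of elements of `P` are central -/
theorem comm_central' {H : Type*} [Group H] {a b w : H} [Fact (Nat.Prime 11)] (h : Heis.Rel 11 a b w) {u v : H}
    (hu : u ∈ Heis.gp h) (hv : v ∈ Heis.gp h) : ∃ n : ℕ, u * v = v * u * w ^ n := by
  obtain ⟨i, j, k, rfl⟩ := hu
  obtain ⟨i', j', k', rfl⟩ := hv
  refine ⟨j * i' + 10 * (j' * i), ?_⟩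
  have h3 : k' + k + j' * i + (j * i' + 10 * (j' * i)) = k + k' + j * i' + 11 * (j' * i) := by ring
  calc _ = a ^ (i + i') * b ^ (j + j') * w ^ (k + k' + j * i') := h.mul i j k i' j' k'
    _ = a ^ (i' + i) * b ^ (j' + j) * w ^ (k' + k + j' * i + (j * i' + 10 * (j' * i))) := by
      rw [h3, pow_add w (k + k' + j * i') (11 * _), pow_mul, h.wp, one_pow, mul_one, add_comm i, add_comm j]
    _ = a ^ (i' + i) * b ^ (j' + j) * w ^ (k' + k + j' * i) * w ^ (j * i' + 10 * (j' * i)) := by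
      rw [pow_add w (k' + k + j' * i), ← mul_assoc]
    _ = _ := by rw [h.mul i' j' k' i j k]

theorem comm_central {u v : 𝒢} (hu : u ∈ NU.U) (hv : v ∈ NU.U) : ∃ n : ℕ, u * v = v * u * NU.c ^ n :=
  comm_central' NU.rel hu hv

theorem odd_one {w : 𝒢} (h11 : w ^ 11 = 1) (h2 : w * w = 1) : w = 1 := by
  have h3 : w ^ 11 = (w * w) ^ 5 * w := by rw [← pow_two, ← pow_mul, ← pow_succ]
  rw [h3, h2, one_pow, one_mul] at h11
  exact h11

/-- an element of `P` inverted modulo ... : if `m` fixes `u`, inverts `v` and commutes with `c`, then `u` and `v` commute -/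
theorem comm_of_inv {m u v : 𝒢} (hu : u ∈ NU.U) (hv : v ∈ NU.U) (hm : m * NU.c = NU.c * m) (h1 : m * u = u * m)
    (h2 : m * v * m⁻¹ = v⁻¹) : u * v = v * u := by
  obtain ⟨n, hn⟩ := comm_central hu hv
  have hcu : Commute NU.c u := Heis.w_comm NU.rel hu
  have hcv : Commute NU.c v := Heis.w_comm NU.rel hv
  have h3 : m * u * m⁻¹ = u := by rw [h1, mul_inv_cancel_right]
  have h4 : m * NU.c ^ n * m⁻¹ = NU.c ^ n := by
    have : Commute m (NU.c ^ n) := (show Commute m NU.c from hm).pow_right n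
    rw [this.eq, mul_inv_cancel_right]
  -- conjugate by `m`
  have h5 : u * v⁻¹ = v⁻¹ * u * NU.c ^ n := by
    calc u * v⁻¹ = (m * u * m⁻¹) * (m * v * m⁻¹) := by rw [h3, h2]
      _ = m * (u * v) * m⁻¹ := by group
      _ = m * (v * u * NU.c ^ n) * m⁻¹ := by rw [hn]
      _ = (m * v * m⁻¹) * (m * u * m⁻¹) * (m * NU.c ^ n * m⁻¹) := by group
      _ = v⁻¹ * u * NU.c ^ n := by rw [h2, h3, h4]
  have hcn : Commute (NU.c ^ n) v := hcv.pow_left n
  have h6 : u = u * (NU.c ^ n * NU.c ^ n) := by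
    calc u = v * (v⁻¹ * u) := by group
      _ = v * (u * v⁻¹ * (NU.c ^ n)⁻¹) := by rw [h5]; group
      _ = v * u * (v⁻¹ * (NU.c ^ n)⁻¹) := by group
      _ = (u * v * (NU.c ^ n)⁻¹) * (v⁻¹ * (NU.c ^ n)⁻¹) := by rw [hn]; group
      _ = u * (v * (NU.c ^ n)⁻¹ * v⁻¹) * (NU.c ^ n)⁻¹ := by group
      _ = u * (NU.c ^ n)⁻¹ * (NU.c ^ n)⁻¹ := by rw [hcn.inv_left.symm.eq]; group
      _ = u * ((NU.c ^ n * NU.c ^ n)⁻¹) := by group
      _ = u * (NU.c ^ n * NU.c ^ n) := by
        have h7 : NU.c ^ n * NU.c ^ n = 1 := by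
          have e1 : v⁻¹ * u * NU.c ^ n * v = u := by rw [← h5]; group
          have e2 : v⁻¹ * u * NU.c ^ n * v = v⁻¹ * (u * v) * NU.c ^ n := by
            calc v⁻¹ * u * NU.c ^ n * v = v⁻¹ * u * (NU.c ^ n * v) := by group
              _ = v⁻¹ * u * (v * NU.c ^ n) := by rw [hcn.eq]
              _ = _ := by group
          rw [e2, hn] at e1
          have e3 : v⁻¹ * (v * u * NU.c ^ n) * NU.c ^ n = u * (NU.c ^ n * NU.c ^ n) := by group
          rw [e3] at e1
          exact mul_eq_left.1 e1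
        rw [h7, inv_one]
  have h7 : NU.c ^ n * NU.c ^ n = 1 := (mul_eq_left.1 h6.symm)
  have h8 : NU.c ^ n = 1 := odd_one (by rw [← pow_mul, mul_comm, pow_mul, NU.rel.wp, one_pow]) h7
  rw [hn, h8, mul_one]

theorem central_aux {H : Type*} [Group H] {a b w u : H} [Fact (Nat.Prime 11)] (h : Heis.Rel 11 a b w)
    (ha : u * a = a * u) (hb : u * b = b * u) (hc : u * w = w * u) {v : H} (hv : v ∈ Heis.gp h) : u * v = v * u := by
  obtain ⟨i, j, k, rfl⟩ := hv
  have h1 : Commute u (a ^ i) := (show Commute u a from ha).pow_right i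
  have h2 : Commute u (b ^ j) := (show Commute u b from hb).pow_right j
  have h3 : Commute u (w ^ k) := (show Commute u w from hc).pow_right k
  exact ((h1.mul_right h2).mul_right h3).eq

theorem central_of_neg {u : 𝒢} (hu : u ∈ NU.U) (h : u * phi (-1) = phi (-1) * u) : u ∈ zpowers z := by
  have ha := comm_of_inv hu (Heis.a_mem NU.rel) (phi_c (-1)).symm h.symm neg_a
  have hb := comm_of_inv hu (Heis.b_mem NU.rel) (phi_c (-1)).symm h.symm neg_b
  have hc : u * NU.c = NU.c * u := (Heis.w_comm NU.rel hu).symm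
  apply Heis.center_le NU.rel hu
  exact fun w hw => central_aux NU.rel ha hb hc hw

theorem isConj_x {u : 𝒢} (hu : u ∈ NU.U) (hz : u ∉ zpowers z) : IsConj u SylEleven.x := by
  have h : u ∈ SylEleven.orb SylEleven.N SylEleven.x := by
    rw [SylEleven.orb_eq]
    exact ⟨hu, hz⟩
  obtain ⟨n, -, hn⟩ := h
  exact isConj_comm.1 (isConj_iff.2 ⟨n, hn.symm⟩)

theorem card_cent_u {u : 𝒢} (hu : u ∈ NU.U) (hz : u ∉ zpowers z) : Nat.card (centralizer ({u} : Set 𝒢)) = 242 := by
  rw [ClassEleven.card_centralizer_conj (isConj_x hu hz)]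
  exact SylEleven.card_centralizer_x_eq

theorem central_of_order {u : 𝒢} (hu : u ∈ NU.U) {s : SL} (h : u * phi s = phi s * u) (ho : ¬ orderOf s ∣ 242) :
    u ∈ zpowers z := by
  by_contra hz
  apply ho
  rw [← card_cent_u hu hz, ← orderOf_injective phi phi_injective s, ← Subgroup.orderOf_mk (phi s)
    (mem_centralizer_singleton_iff.2 h.symm)]
  exact orderOf_dvd_natCard _

theorem sq_eq_one : ∀ s : SL, s * s = 1 → s = 1 ∨ s = -1 := by decide +kernel

theorem pow24 : ∀ s : SL, s ^ 12 = 1 := by decide +kernel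

theorem fix_eq {s : SL} (hs : s ≠ 1) : NU.U ⊓ centralizer ({phi s} : Set 𝒢) = zpowers z := by
  apply le_antisymm
  · rintro u ⟨hu, h⟩
    have h' : u * phi s = phi s * u := mem_centralizer_singleton_iff.1 h
    by_cases ho : orderOf s ∣ 242
    · have h1 : orderOf s ∣ 12 := orderOf_dvd_of_pow_eq_one (pow24 s)
      have h2 : orderOf s ∣ 2 := by
        have := Nat.dvd_gcd ho h1
        exact this.trans (by norm_num)
      have h3 : s * s = 1 := by
        rw [← pow_two]
        exact orderOf_dvd_iff_pow_eq_one.1 h2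
      rcases sq_eq_one s h3 with h4 | h4
      · exact absurd h4 hs
      · rw [h4] at h'
        exact central_of_neg hu h'
    · exact central_of_order hu h' ho
  · rw [zpowers_le]
    exact ⟨SylEleven.c_mem, mem_centralizer_singleton_iff.2 (phi_c s)⟩

theorem card_fix {s : SL} (hs : s ≠ 1) : Nat.card (NU.U ⊓ centralizer ({phi s} : Set 𝒢) : Subgroup 𝒢) = 11 := by
  rw [fix_eq hs, Nat.card_zpowers]
  exact spl.ord

/-- **centralizer orders** -/
theorem card_cent {s : SL} (hs : s ≠ 1) : Nat.card (centralizer ({z * phi s} : Set 𝒢)) =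
    11 * Nat.card (centralizer ({s} : Set SL)) := by
  rw [spl.card_cent, card_fix hs]

theorem card_cent_z : Nat.card (centralizer ({z} : Set 𝒢)) = 31944 := by
  rw [spl.card, card_P, card_SL]

end Cfsg.Agent.H265.J4LP.El
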