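import Cfsg.Agent.H859.CentC

/-!
# S4819, S4820: relations in the normalizer of a Sylow 11-subgroup of `J₄` (helper265)
-/

set_option autoImplicit false

namespace Cfsg.Agent.H265.J4LP.El

open Cfsg.Agent.Lib.F2MatGroup Cfsg.Agent.J4.Rep112 Cfsg.Agent.H859.NUData
open Cfsg.Agent.H859.PGLWords (check_J4 evG_append)
open Cfsg.Agent.H859

/-- the word of `x` -/
def xw : List ℕ := ia :: (List.replicate 7 ib ++ List.replicate 9 ic)

def esX : List (List ℕ × List ℕ) := [
  ([ik, iB, iA], [iA, ik, iB]),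
  ([ik, iB, iB], [iB, ik, iB]),
  ([1, ia], List.replicate 10 ia ++ [1]),
  ([1, ib], List.replicate 10 ib ++ [1]),
  ([iB] ++ xw, xw ++ [iB]),
  ([ik, iB] ++ xw, xw ++ (xw ++ (xw ++ (xw ++ [ik, iB])))),
  (xw ++ ([1] ++ xw), [1]),
  ([iB, iB], [])]

theorem checkX : check 112 codes slp esX [(xw, []), ([iB], [])] = true := by decide +kernel

end Cfsg.Agent.H265.J4LP.El
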