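import Mathlib

/-!
# Coded permutations and class sizes (helper265)

Permutations of `Fin n`, `n ≤ 32`, coded by natural numbers in base 32; `structure Mdl`: a finite group with an
action given by codes, all elements being products of two transversals; bounds for centralizers and a criterion for
non-conjugacy by kernel evaluation.
-/

set_option autoImplicit false

namespace Cfsg.Agent.H265.J4LP.PC

/-! ### Kernel helpers -/

/-- evaluate `n` before substituting -/
@[reducible] def frc {α : Sort _} (n : ℕ) (f : ℕ → α) : α :=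
  Nat.rec (f 0) (fun k _ => f (Nat.succ k)) n

theorem frc_eq {α : Sort _} (n : ℕ) (f : ℕ → α) : frc n f = f n := by
  cases n <;> rfl

/-- the `i`-th digit -/
def dig (c i : ℕ) : ℕ := Nat.mod (Nat.shiftRight c (Nat.mul 5 i)) 32

/-- the number with given digits -/
def enc (f : ℕ → ℕ) (n : ℕ) : ℕ :=
  Nat.rec 0 (fun i ih => Nat.add ih (Nat.mul (f i) (Nat.pow 32 i))) n

theorem enc_succ (f : ℕ → ℕ) (n : ℕ) : enc f (n + 1) = enc f n + f n * 32 ^ n := rfl

theorem enc_lt {f : ℕ → ℕ} (n : ℕ) (hf : ∀ i < n, f i < 32) : enc f n < 32 ^ n := by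
  induction n with
  | zero => exact Nat.one_pos
  | succ n ih =>
    rw [enc_succ]
    have h1 := ih fun i hi => hf i (by omega)
    have h2 : f n * 32 ^ n ≤ 31 * 32 ^ n := Nat.mul_le_mul_right _ (by have := hf n (by omega); omega)
    rw [pow_succ]
    omega

theorem dig_enc {f : ℕ → ℕ} (n : ℕ) (hf : ∀ i < n, f i < 32) : ∀ i < n, dig (enc f n) i = f i := by
  induction n with
  | zero => intro i hi; omega
  | succ n ih =>
    intro i hi
    have h1 := enc_lt n fun i hi => hf i (by omega)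
    have e : ∀ c, dig c i = c / 32 ^ i % 32 := by
      intro c
      show (c >>> (5 * i)) % 32 = _
      rw [Nat.shiftRight_eq_div_pow, show (32 : ℕ) = 2 ^ 5 by norm_num, ← pow_mul]
    rw [enc_succ]
    rcases Nat.lt_succ_iff_lt_or_eq.1 hi with h | rfl
    · have h2 := ih (fun i hi => hf i (by omega)) i h
      rw [e] at h2 ⊢
      rw [← h2]
      have h3 : (32 : ℕ) ^ n = 32 ^ i * (32 * 32 ^ (n - i - 1)) := by
        rw [← pow_succ', ← pow_add]
        congr 1
        omega
      rw [h3, show f n * (32 ^ i * (32 * 32 ^ (n - i - 1))) = 32 ^ i * (32 * (f n * 32 ^ (n - i - 1))) by ring,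
        Nat.add_mul_div_left _ _ (by positivity), Nat.add_mul_mod_self_left]
    · rw [e, Nat.add_mul_div_right _ _ (by positivity), Nat.div_eq_of_lt h1, zero_add,
        Nat.mod_eq_of_lt (hf i hi)]

variable {n : ℕ}

/-- the code of a permutation -/
def code (σ : Equiv.Perm (Fin n)) : ℕ := enc (fun i => if h : i < n then (σ ⟨i, h⟩ : ℕ) else 0) n

/-- the digits as a function -/
def fn (σ : Equiv.Perm (Fin n)) (i : ℕ) : ℕ := if h : i < n then (σ ⟨i, h⟩ : ℕ) else 0

theorem code_eq (σ : Equiv.Perm (Fin n)) : code σ = enc (fn σ) n := rfl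

theorem fn_lt (hn : n ≤ 32) (σ : Equiv.Perm (Fin n)) (i : ℕ) (_ : i < n) : fn σ i < 32 := by
  unfold fn
  split
  · next h => have := (σ ⟨i, h⟩).2; omega
  · omega

theorem dig_code (hn : n ≤ 32) (σ : Equiv.Perm (Fin n)) (i : Fin n) : dig (code σ) i = (σ i : ℕ) := by
  rw [code_eq, dig_enc n (fn_lt hn σ) i i.2]
  unfold fn
  rw [dif_pos i.2]

theorem code_inj (hn : n ≤ 32) {σ τ : Equiv.Perm (Fin n)} (h : code σ = code τ) : σ = τ := by
  ext i
  rw [← dig_code hn σ i, ← dig_code hn τ i, h]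

/-- the product of codes -/
def mulc (n c d : ℕ) : ℕ := enc (fun i => dig c (dig d i)) n

theorem enc_congr {f g : ℕ → ℕ} (n : ℕ) (h : ∀ i < n, f i = g i) : enc f n = enc g n := by
  induction n with
  | zero => rfl
  | succ n ih => rw [enc_succ, enc_succ, ih fun i hi => h i (by omega), h n (by omega)]

theorem code_mul (hn : n ≤ 32) (σ τ : Equiv.Perm (Fin n)) : code (σ * τ) = mulc n (code σ) (code τ) := by
  rw [code_eq]
  unfold mulc
  apply enc_congr
  intro i hi
  have h1 := dig_code hn τ ⟨i, hi⟩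
  have h2 := dig_code hn σ (τ ⟨i, hi⟩)
  show _ = dig (code σ) (dig (code τ) i)
  rw [show dig (code τ) i = (τ ⟨i, hi⟩ : ℕ) from h1, h2]
  unfold fn
  rw [dif_pos hi, Equiv.Perm.mul_apply]

/-- the code of the identity -/
def onec (n : ℕ) : ℕ := enc (fun i => i) n

theorem code_one : code (1 : Equiv.Perm (Fin n)) = onec n := by
  rw [code_eq]
  unfold onec
  apply enc_congr
  intro i hi
  unfold fn
  rw [dif_pos hi, Equiv.Perm.one_apply]

/-! ### Words -/

/-- evaluation of a word in a group -/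
def ev {G : Type*} [Group G] (L : List G) (w : List ℕ) : G := (w.map fun i => L.getD i 1).prod

theorem ev_nil {G : Type*} [Group G] (L : List G) : ev L [] = 1 := rfl

theorem ev_cons {G : Type*} [Group G] (L : List G) (i : ℕ) (w : List ℕ) : ev L (i :: w) = L.getD i 1 * ev L w := by
  unfold ev
  rw [List.map_cons, List.prod_cons]

theorem ev_append {G : Type*} [Group G] (L : List G) (v w : List ℕ) : ev L (v ++ w) = ev L v * ev L w := by
  unfold ev
  rw [List.map_append, List.prod_append]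

theorem getD_map {G H : Type*} [Group G] [Group H] (f : G →* H) (L : List G) (i : ℕ) :
    (L.map f).getD i 1 = f (L.getD i 1) := by
  induction L generalizing i with
  | nil => simp
  | cons a L ih =>
    cases i with
    | zero => simp
    | succ i => simpa using ih i

theorem ev_map {G H : Type*} [Group G] [Group H] (f : G →* H) (L : List G) (w : List ℕ) :
    ev (L.map f) w = f (ev L w) := by
  induction w with
  | nil => rw [ev_nil, ev_nil, map_one]
  | cons i w ih => rw [ev_cons, ev_cons, map_mul, ih, getD_map]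

/-- evaluation in codes -/
def evc (n : ℕ) (C : List ℕ) (w : List ℕ) : ℕ :=
  List.rec (onec n) (fun i _ ih => frc ih fun v => mulc n (C.getD i (onec n)) v) w

theorem evc_cons (n : ℕ) (C : List ℕ) (i : ℕ) (w : List ℕ) :
    evc n C (i :: w) = mulc n (C.getD i (onec n)) (evc n C w) := frc_eq _ _

theorem getD_code (L : List (Equiv.Perm (Fin n))) (i : ℕ) :
    (L.map code).getD i (onec n) = code (L.getD i 1) := by
  induction L generalizing i with
  | nil => simp [code_one]
  | cons a L ih =>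
    cases i with
    | zero => simp
    | succ i => simpa using ih i

theorem code_ev (hn : n ≤ 32) (L : List (Equiv.Perm (Fin n))) (w : List ℕ) :
    code (ev L w) = evc n (L.map code) w := by
  induction w with
  | nil => exact code_one
  | cons i w ih => rw [ev_cons, code_mul hn, evc_cons, ih, getD_code]

/-! ### Counting -/

/-- number of entries equal to `v` -/
def cnt (v : ℕ) (l : List ℕ) : ℕ :=
  List.rec 0 (fun a _ ih => cond (Nat.beq v a) (Nat.succ ih) ih) l

theorem cnt_cons (v a : ℕ) (l : List ℕ) : cnt v (a :: l) = cond (Nat.beq v a) (Nat.succ (cnt v l)) (cnt v l) := rfl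

/-- number of pairs of equal entries -/
def tot (A B : List ℕ) : ℕ := List.rec 0 (fun v _ ih => Nat.add (cnt v B) ih) A

theorem tot_cons (v : ℕ) (A B : List ℕ) : tot (v :: A) B = cnt v B + tot A B := rfl

/-- evaluated map -/
def fmap {α β : Type*} (f : α → ℕ) (l : List α) (k : List ℕ → β) : β :=
  List.rec (motive := fun _ => (List ℕ → β) → β) (fun k => k [])
    (fun a _ ih k => frc (f a) fun v => ih fun L => k (v :: L)) l k

theorem fmap_nil {α β : Type*} (f : α → ℕ) (k : List ℕ → β) : fmap f [] k = k [] := rfl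
theorem fmap_cons {α β : Type*} (f : α → ℕ) (a : α) (l : List α) (k : List ℕ → β) :
    fmap f (a :: l) k = frc (f a) fun v => fmap f l fun L => k (v :: L) := rfl

theorem fmap_eq {α β : Type*} (f : α → ℕ) (l : List α) (k : List ℕ → β) : fmap f l k = k (l.map f) := by
  induction l generalizing k with
  | nil => rfl
  | cons a l ih => rw [fmap_cons, frc_eq, ih, List.map_cons]

theorem cnt_eq {β : Type*} (g : β → ℕ) (v : ℕ) (l : List β) :
    cnt v (l.map g) = (l.filter fun b => Nat.beq v (g b)).length := by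
  induction l with
  | nil => rfl
  | cons b l ih =>
    rw [List.map_cons, cnt_cons, ih, List.filter_cons]
    rcases hb : Nat.beq v (g b) with _ | _
    · simp
    · simp

theorem tot_eq {α β : Type*} (f : α → ℕ) (g : β → ℕ) (A : List α) (B : List β) :
    tot (A.map f) (B.map g) = ((A ×ˢ B).filter fun p => Nat.beq (f p.1) (g p.2)).length := by
  induction A with
  | nil => rfl
  | cons a A ih =>
    rw [List.map_cons, tot_cons, ih, cnt_eq, List.product_cons, List.filter_append, List.length_append,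
      List.filter_map, List.length_map]
    rfl

theorem card_le {G : Type*} [Group G] {ι : Type*} (S : Set G) (l : List ι) (F : ι → G)
    (h : ∀ g ∈ S, ∃ p ∈ l, g = F p) : Nat.card S ≤ l.length := by
  classical
  have h1 : S ⊆ ((l.map F).toFinset : Set G) := by
    intro g hg
    obtain ⟨p, hp, rfl⟩ := h g hg
    rw [Finset.mem_coe, List.mem_toFinset]
    exact List.mem_map_of_mem hp
  calc Nat.card S = S.ncard := Nat.card_coe_set_eq S
    _ ≤ ((l.map F).toFinset : Set G).ncard := Set.ncard_le_ncard h1 (Finset.finite_toSet _)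
    _ = (l.map F).toFinset.card := Set.ncard_coe_finset _
    _ ≤ (l.map F).length := List.toFinset_card_le _
    _ = l.length := List.length_map _

/-! ### The model -/

/-- the inverse letter -/
def iv : ℕ → ℕ
  | 0 => 2
  | 1 => 3
  | 2 => 0
  | 3 => 1
  | (k + 4) => k + 4

/-- the inverse word -/
def wi (w : List ℕ) : List ℕ := (w.map iv).reverse

theorem ev_wi {G : Type*} [Group G] (a b : G) (w : List ℕ) :
    ev [a, b, a⁻¹, b⁻¹] (wi w) = (ev [a, b, a⁻¹, b⁻¹] w)⁻¹ := by
  induction w with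
  | nil => simp [wi, ev_nil]
  | cons i w ih =>
    have h1 : wi (i :: w) = wi w ++ [iv i] := by simp [wi]
    rw [h1, ev_append, ih, ev_cons _ _ ([] : List ℕ), ev_nil, mul_one, ev_cons _ i w, mul_inv_rev]
    congr 1
    rcases i with _ | _ | _ | _ | i <;> simp [iv]

/-- conjugation in codes -/
def cj (n x : ℕ) (p : ℕ × ℕ) : ℕ := frc (mulc n p.1 x) fun v => mulc n v p.2

/-- one query: the number of `(a, b)` with `(ab) x (ab)⁻¹ = y` -/
def qry (n : ℕ) (C A Ai B Bi : List ℕ) (q : List ℕ × List ℕ × ℕ) : Bool :=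
  frc (evc n C q.1) fun x => frc (evc n C q.2.1) fun y =>
    fmap (cj n x) (B.zip Bi) fun BL => fmap (cj n y) (Ai.zip A) fun AL => Nat.beq (tot AL BL) q.2.2

/-- the transversals -/
def tchk (A B : List ℕ) : Bool :=
  (A.map fun a => dig a 0).Pairwise (· ≠ ·) && (B.all fun b => Nat.beq (dig b 0) 0) && B.Pairwise (· ≠ ·)

/-- the whole check -/
def chk (n : ℕ) (C : List ℕ) (T U : List (List ℕ)) (Q : List (List ℕ × List ℕ × ℕ)) : Bool :=
  fmap (evc n C) T fun A => fmap (evc n C) (T.map wi) fun Ai => fmap (evc n C) U fun B =>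
    fmap (evc n C) (U.map wi) fun Bi => tchk A B && Q.all (qry n C A Ai B Bi)

section

variable {G : Type*} [Group G] [Finite G] (hn : n ≤ 32) (h0 : 0 < n) (ψ : G →* Equiv.Perm (Fin n)) (a b : G)
  {C : List ℕ} (hC : (([a, b, a⁻¹, b⁻¹] : List G).map ψ).map code = C) {T U : List (List ℕ)}
  (hcard : Nat.card G = T.length * U.length) {Q : List (List ℕ × List ℕ × ℕ)} (h : chk n C T U Q = true)

include hn hC

omit [Finite G] in
theorem code_w (w : List ℕ) : code (ψ (ev [a, b, a⁻¹, b⁻¹] w)) = evc n C w := by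
  rw [← ev_map, code_ev hn, hC]

include h0 hcard h

theorem gen_all : (∀ g : G, ∃ v ∈ T, ∃ w ∈ U, g = ev [a, b, a⁻¹, b⁻¹] v * ev [a, b, a⁻¹, b⁻¹] w) ∧
    Function.Injective ψ := by
  unfold chk at h
  simp only [fmap_eq, Bool.and_eq_true, tchk, decide_eq_true_eq, List.all_eq_true] at h
  obtain ⟨⟨⟨h1, h2⟩, h3⟩, -⟩ := h
  have h2' : ∀ w ∈ U, dig (evc n C w) 0 = 0 := fun w hw =>
    Nat.eq_of_beq_eq_true (h2 _ (List.mem_map_of_mem hw))
  let F : Fin T.length × Fin U.length → G := fun p => ev [a, b, a⁻¹, b⁻¹] T[p.1] * ev [a, b, a⁻¹, b⁻¹] U[p.2]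
  have hz : ∀ w ∈ U, ψ (ev [a, b, a⁻¹, b⁻¹] w) ⟨0, h0⟩ = ⟨0, h0⟩ := by
    intro w hw
    apply Fin.ext
    have h5 := dig_code hn (ψ (ev [a, b, a⁻¹, b⁻¹] w)) ⟨0, h0⟩
    rw [code_w hn ψ a b hC] at h5
    rw [← h5]
    exact h2' w hw
  have hF : Function.Injective fun p => ψ (F p) := by
    rintro ⟨p, q⟩ ⟨p', q'⟩ he
    have he' : ψ (ev [a, b, a⁻¹, b⁻¹] T[p]) * ψ (ev [a, b, a⁻¹, b⁻¹] U[q]) =
        ψ (ev [a, b, a⁻¹, b⁻¹] T[p']) * ψ (ev [a, b, a⁻¹, b⁻¹] U[q']) := by
      have : ψ (F (p, q)) = ψ (F (p', q')) := he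
      simpa only [F, map_mul] using this
    have e0 : ψ (ev [a, b, a⁻¹, b⁻¹] T[p]) ⟨0, h0⟩ = ψ (ev [a, b, a⁻¹, b⁻¹] T[p']) ⟨0, h0⟩ := by
      have h6 := congrArg (fun σ : Equiv.Perm (Fin n) => σ ⟨0, h0⟩) he'
      simp only [Equiv.Perm.mul_apply] at h6
      rw [hz U[q] (List.getElem_mem _), hz U[q'] (List.getElem_mem _)] at h6
      exact h6
    have e1 : dig (evc n C T[p]) 0 = dig (evc n C T[p']) 0 := by
      have h6 := dig_code hn (ψ (ev [a, b, a⁻¹, b⁻¹] T[p])) ⟨0, h0⟩
      have h7 := dig_code hn (ψ (ev [a, b, a⁻¹, b⁻¹] T[p'])) ⟨0, h0⟩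
      rw [code_w hn ψ a b hC] at h6 h7
      rw [show dig (evc n C T[p]) 0 = _ from h6, show dig (evc n C T[p']) 0 = _ from h7, e0]
    have hp : p = p' := by
      by_contra hne
      have h8 : (p : ℕ) ≠ p' := fun h => hne (Fin.ext h)
      rw [List.pairwise_iff_getElem] at h1
      rcases Nat.lt_or_gt_of_ne h8 with h9 | h9
      · refine h1 p p' (by simp) (by simp) h9 ?_
        simpa using e1
      · refine h1 p' p (by simp) (by simp) h9 ?_
        simpa using e1.symm
    subst hp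
    have e2 : ψ (ev [a, b, a⁻¹, b⁻¹] U[q]) = ψ (ev [a, b, a⁻¹, b⁻¹] U[q']) := mul_left_cancel he'
    have e3 : evc n C U[q] = evc n C U[q'] := by
      rw [← code_w hn ψ a b hC, ← code_w hn ψ a b hC, e2]
    have hq : q = q' := by
      by_contra hne
      have h8 : (q : ℕ) ≠ q' := fun h => hne (Fin.ext h)
      rw [List.pairwise_iff_getElem] at h3
      rcases Nat.lt_or_gt_of_ne h8 with h9 | h9
      · refine h3 q q' (by simp) (by simp) h9 ?_
        simpa using e3
      · refine h3 q' q (by simp) (by simp) h9 ?_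
        simpa using e3.symm
    rw [hq]
  have hF' : Function.Injective F := fun p q e => hF (congrArg ψ e)
  have hb : Function.Bijective F := by
    rw [Nat.bijective_iff_injective_and_card]
    refine ⟨hF', ?_⟩
    rw [hcard, Nat.card_prod, Nat.card_fin, Nat.card_fin]
  constructor
  · intro g
    obtain ⟨⟨p, q⟩, rfl⟩ := hb.2 g
    exact ⟨_, List.getElem_mem _, _, List.getElem_mem _, rfl⟩
  · intro g g' e
    obtain ⟨p, rfl⟩ := hb.2 g
    obtain ⟨q, rfl⟩ := hb.2 g'
    rw [hF e]

/-- equality of words -/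
theorem eq_of_evc {v w : List ℕ} (hvw : evc n C v = evc n C w) : ev [a, b, a⁻¹, b⁻¹] v = ev [a, b, a⁻¹, b⁻¹] w := by
  apply (gen_all hn h0 ψ a b hC hcard h).2
  apply code_inj hn
  rw [code_w hn ψ a b hC, code_w hn ψ a b hC, hvw]

/-- the number of elements conjugating `x` to `y` -/
theorem card_conj_le {x y : List ℕ} {N : ℕ} (hq : (x, y, N) ∈ Q) :
    Nat.card {g : G // g * ev [a, b, a⁻¹, b⁻¹] x * g⁻¹ = ev [a, b, a⁻¹, b⁻¹] y} ≤ N := by
  have hg := gen_all hn h0 ψ a b hC hcard h
  unfold chk at h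
  simp only [fmap_eq, Bool.and_eq_true, List.all_eq_true] at h
  have h1 := h.2 _ hq
  unfold qry at h1
  simp only [frc_eq, fmap_eq] at h1
  have h1 := Nat.eq_of_beq_eq_true h1
  rw [← h1]
  have e1 : ((U.map (evc n C)).zip ((U.map wi).map (evc n C))) = U.map fun w => (evc n C w, evc n C (wi w)) := by
    rw [List.map_map, List.zip_map']
    rfl
  have e2 : (((T.map wi).map (evc n C)).zip (T.map (evc n C))) = T.map fun w => (evc n C (wi w), evc n C w) := by
    rw [List.map_map, List.zip_map']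
    rfl
  rw [e1, e2, List.map_map, List.map_map, tot_eq]
  refine card_le {g : G | g * ev [a, b, a⁻¹, b⁻¹] x * g⁻¹ = ev [a, b, a⁻¹, b⁻¹] y} _
    (fun p => ev [a, b, a⁻¹, b⁻¹] p.1 * ev [a, b, a⁻¹, b⁻¹] p.2) ?_
  intro g hgS
  obtain ⟨v, hv, w, hw, rfl⟩ := hg.1 g
  refine ⟨(v, w), ?_, rfl⟩
  rw [List.mem_filter]
  refine ⟨List.mem_product.2 ⟨hv, hw⟩, ?_⟩
  suffices hh : ∀ u v : ℕ, u = v → Nat.beq u v = true by
    apply hh
    clear hh
    simp only [Function.comp_apply, cj, frc_eq]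
    have hS : (ev [a, b, a⁻¹, b⁻¹] v * ev [a, b, a⁻¹, b⁻¹] w) * ev [a, b, a⁻¹, b⁻¹] x *
      (ev [a, b, a⁻¹, b⁻¹] v * ev [a, b, a⁻¹, b⁻¹] w)⁻¹ = ev [a, b, a⁻¹, b⁻¹] y := hgS
    rw [← code_w hn ψ a b hC, ← code_w hn ψ a b hC, ← code_w hn ψ a b hC, ← code_w hn ψ a b hC,
      ← code_w hn ψ a b hC, ← code_w hn ψ a b hC, ← code_mul hn, ← code_mul hn, ← code_mul hn, ← code_mul hn,
      ← map_mul, ← map_mul, ← map_mul, ← map_mul, ev_wi, ev_wi]
    congr 2
    rw [← hS]
    group
  intro u v e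
  rw [e]
  exact Nat.beq_refl v

/-- centralizers -/
theorem card_centralizer_le {x : List ℕ} {N : ℕ} (hq : (x, x, N) ∈ Q) :
    Nat.card (Subgroup.centralizer ({ev [a, b, a⁻¹, b⁻¹] x} : Set G)) ≤ N := by
  refine le_trans (Nat.le_of_eq ?_) (card_conj_le hn h0 ψ a b hC hcard h hq)
  apply Nat.card_congr
  refine Equiv.subtypeEquivRight fun g => ?_
  rw [Subgroup.mem_centralizer_singleton_iff, mul_inv_eq_iff_eq_mul]

/-- non-conjugate elements -/
theorem not_isConj {x y : List ℕ} (hq : (x, y, 0) ∈ Q) :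
    ¬ IsConj (ev [a, b, a⁻¹, b⁻¹] x) (ev [a, b, a⁻¹, b⁻¹] y) := by
  intro hc
  obtain ⟨g, hg⟩ := isConj_iff.1 hc
  have h1 := card_conj_le hn h0 ψ a b hC hcard h hq
  have h2 : 0 < Nat.card {g : G // g * ev [a, b, a⁻¹, b⁻¹] x * g⁻¹ = ev [a, b, a⁻¹, b⁻¹] y} :=
    Nat.card_pos_iff.2 ⟨⟨⟨g, hg⟩⟩, inferInstance⟩
  omega

end

end Cfsg.Agent.H265.J4LP.PC
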