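import Cfsg.Agent.H265.J4LP.Five
import Cfsg.Agent.H265.J4LP.PermCode
import Cfsg.Agent.H180.KM11

/-!
# S4819, S4820: the classes of `H = C(5)/5`, a nonsplit extension `2³·L₃(2)` (helper265)
-/

set_option autoImplicit false
set_option maxRecDepth 20000

namespace Cfsg.Agent.H265.J4LP.Fv

open Subgroup
open Cfsg.Agent.Lib Cfsg.Agent.Lib.F2MatGroup
open Cfsg.Agent.J4.Rep112 Cfsg.Agent.J4.Pres Cfsg.Agent.J4.M24Hom Cfsg.Agent.J4.LowerData
open Cfsg.Agent.J4.Beta Cfsg.Agent.J4.Classes Cfsg.Agent.J4.Lower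
open Cfsg.Agent.H858 Cfsg.Agent.H858.VK Cfsg.Agent.H858.Data Cfsg.Agent.H858.Elem Cfsg.Agent.H858.Pent
open Cfsg.Agent.H858.Norm57 Cfsg.Agent.H858.Abs Cfsg.Agent.H858.Loc7 Cfsg.Agent.H858.Loc5

local notation "𝒢" => Cfsg.Spor.J4

/-- the vectors -/
def ws : List ℕ := [20203490921497502919818621768767, 2080959441358319803123126450736556,
  3461504829635665238554234682751254, 5172014758411464556917146893391905, 1050581465540058466060403170952027,
  3959883985497347782755594691558649, 1838517565048082539868359242734229, 4141715392274934550606181343604548,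
  323255835550808770639578794507389, 4141715392274934550605525548618939, 3353779293486745088662137086485866,
  2138018570035579574607502840189392, 3959842367591070617538734597738264, 323255836609201088177463554004066,
  4869041022984018857889953390999677, 1232454490943757010991761731481831, 4869041021925626540353032775216029,
  3111337417176507825407369878483539, 1050581466259893077924970780601156, 4869041022984018857890917534712706,
  5172093367613330125610677707451328, 323255835550808770640542938220418, 20282100123363071613349435828190,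
  4141715392994769162470093158268068, 3054278288499248053922993489030703, 1730792028899162389976261646468841,
  1050581466259893077924314985615547, 1232412873037479845774901637661446]

/-- the permutation of `s` -/
def ps : List ℕ := [11, 0, 8, 1, 7, 2, 27, 3, 16, 4, 5, 9, 6, 14, 12, 10, 21, 20, 23, 13, 24, 15, 17, 26, 18,
  19, 22, 25]

/-- the permutation of `j` -/
def pj : List ℕ := [16, 24, 0, 9, 1, 4, 2, 14, 3, 15, 25, 5, 19, 6, 7, 8, 10, 11, 12, 22, 13, 26, 18, 17, 27,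
  20, 21, 23]

/-- the permutation of `s⁻¹` -/
def psi : List ℕ := [1, 3, 5, 7, 9, 10, 12, 4, 2, 11, 15, 0, 14, 19, 13, 21, 8, 22, 24, 25, 17, 16, 26, 18,
  20, 27, 23, 6]

/-- the permutation of `j⁻¹` -/
def pji : List ℕ := [2, 4, 6, 8, 5, 11, 13, 14, 15, 3, 16, 17, 18, 20, 7, 9, 0, 23, 22, 12, 25, 26, 19, 27, 1,
  10, 21, 24]

/-- codes -/
def CC : List ℕ := [0xcda72d45f86de95531c6494901ec470a00b, 0xbd69b8cb4db316a41cd32e5e37088148310,
  0x35f7496a11ce2c8ab66e03d622314939461, 0xc5541dcf5965ae049e928c06f7356541882]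

/-- first transversal -/
def TT : List (List ℕ) := [[], [2], [3], [2, 2], [3, 2], [1, 0], [3, 3], [0, 3, 2], [0, 3], [0, 0], [1, 1],
  [0], [2, 3, 3], [3, 3, 3], [0, 3, 3, 3], [0, 0, 1], [1], [3, 0], [0, 1, 2], [0, 1, 1, 1], [0, 3, 0], [0, 1],
  [2, 3, 0], [3, 3, 0], [1, 2], [1, 1, 1], [1, 0, 1], [0, 3, 3]]

/-- stabilizer of a point -/
def UU : List (List ℕ) := [[], [1, 0, 1, 0], [1, 2, 2, 1], [2, 3, 2, 3], [3, 0, 0, 3], [0, 0, 1, 0, 3], [0, 0,
  1, 2, 1], [0, 0, 3, 0, 0], [0, 1, 0, 0, 0], [0, 1, 1, 1, 0], [0, 1, 1, 2, 3], [1, 0, 0, 1, 1], [1, 0, 3, 3,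
  2], [1, 2, 3, 2, 2], [2, 2, 1, 2, 2], [2, 2, 2, 3, 2], [2, 3, 0, 1, 1], [2, 3, 3, 3, 2], [3, 0, 3, 2, 2],
  [3, 3, 2, 1, 0], [3, 3, 2, 2, 3], [0, 0, 3, 2, 3, 2], [0, 1, 0, 1, 2, 2], [0, 1, 1, 0, 1, 1], [0, 3, 3, 0,
  3, 3], [1, 0, 3, 0, 0, 0], [1, 1, 2, 1, 1, 2], [1, 2, 1, 2, 1, 1], [1, 2, 3, 3, 0, 0], [2, 2, 1, 1, 0, 3],
  [2, 2, 2, 1, 1, 0], [2, 2, 2, 1, 2, 3], [2, 3, 3, 0, 0, 0], [3, 0, 1, 2, 1, 1], [3, 2, 2, 2, 1, 1], [3, 3,
  0, 0, 0, 1], [3, 3, 0, 3, 0, 3], [3, 3, 0, 3, 2, 1], [3, 3, 2, 3, 3, 2], [0, 0, 1, 1, 0, 0, 1], [0, 0, 3, 0,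
  3, 2, 3], [0, 0, 3, 2, 1, 2, 3], [0, 0, 3, 3, 0, 0, 1], [0, 1, 2, 2, 1, 0, 3], [0, 3, 2, 1, 2, 3, 0], [0, 3,
  2, 2, 3, 3, 0], [0, 3, 3, 2, 1, 1, 1], [3, 3, 3, 0, 1, 1, 2]]

/-- the `i`-th vector -/
def wn (i : ℕ) : ℕ := ws.getD i 0

/-- the check of the permutations -/
def vchk (L : List ℕ) : Bool :=
  ((List.range 28).all fun i => Nat.beq (F2Mat.vmul 112 (wn (ps.getD i 0)) (get (F2Mat.one 112) L 9)) (wn i)) &&
  ((List.range 28).all fun i => Nat.beq (F2Mat.vmul 112 (wn (pj.getD i 0)) (get (F2Mat.one 112) L 0)) (wn i))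

theorem check28 : run 112 (slpQ ++ slpX) codes (fun L => vchk L) = true := by decide +kernel

/-- the `i`-th vector -/
def wv (i : Fin 28) : Fin 112 → ZMod 2 := F2Mat.toVec 112 (wn i)

theorem wn_lt : ∀ i : Fin 28, wn i < 2 ^ 112 := by decide +kernel
theorem wn_inj : ∀ i k : Fin 28, wn i = wn k → i = k := by decide +kernel

theorem wv_inj {i k : Fin 28} (h : wv i = wv k) : i = k :=
  wn_inj i k (F2Mat.toVec_inj (wn_lt i) (wn_lt k) h)

/-- the permutation of `s` -/
def Ps : Equiv.Perm (Fin 28) where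
  toFun i := ⟨ps.getD i 0 % 28, Nat.mod_lt _ (by norm_num)⟩
  invFun i := ⟨psi.getD i 0 % 28, Nat.mod_lt _ (by norm_num)⟩
  left_inv := by decide +kernel
  right_inv := by decide +kernel

/-- the permutation of `j` -/
def Pj : Equiv.Perm (Fin 28) where
  toFun i := ⟨pj.getD i 0 % 28, Nat.mod_lt _ (by norm_num)⟩
  invFun i := ⟨pji.getD i 0 % 28, Nat.mod_lt _ (by norm_num)⟩
  left_inv := by decide +kernel
  right_inv := by decide +kernel

theorem Ps_val : ∀ i : Fin 28, (Ps i : ℕ) = ps.getD i 0 := by decide +kernel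
theorem Pj_val : ∀ i : Fin 28, (Pj i : ℕ) = pj.getD i 0 := by decide +kernel

/-- `g` induces `σ` on the 28 vectors -/
def Rl (g : 𝒢) (σ : Equiv.Perm (Fin 28)) : Prop := ∀ i, Matrix.vecMul (wv (σ i))
  ((rho g : GL (Fin 112) (ZMod 2)) : Matrix (Fin 112) (Fin 112) (ZMod 2)) = wv i

theorem rl_one : Rl 1 1 := by
  intro i
  rw [map_one, Units.val_one, Matrix.vecMul_one]
  rfl

theorem rl_mul {g h : 𝒢} {σ τ : Equiv.Perm (Fin 28)} (h1 : Rl g σ) (h2 : Rl h τ) : Rl (g * h) (σ * τ) := by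
  intro i
  rw [map_mul, Units.val_mul, ← Matrix.vecMul_vecMul, Equiv.Perm.mul_apply, h1, h2]

theorem rl_inv {g : 𝒢} {σ : Equiv.Perm (Fin 28)} (h1 : Rl g σ) : Rl g⁻¹ σ⁻¹ := by
  intro i
  have h2 := h1 (σ⁻¹ i)
  rw [show σ (σ⁻¹ i) = i from Equiv.apply_symm_apply σ i] at h2
  rw [← h2, Matrix.vecMul_vecMul, map_inv, ← Units.val_mul, mul_inv_cancel, Units.val_one, Matrix.vecMul_one]

theorem rl_uniq {g : 𝒢} {σ τ : Equiv.Perm (Fin 28)} (h1 : Rl g σ) (h2 : Rl g τ) : σ = τ := by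
  ext i
  congr 1
  apply wv_inj
  have h3 := (h1 i).trans (h2 i).symm
  have h4 := congrArg (fun v => Matrix.vecMul v
    (((rho g)⁻¹ : GL (Fin 112) (ZMod 2)) : Matrix (Fin 112) (Fin 112) (ZMod 2))) h3
  simp only [Matrix.vecMul_vecMul, ← Units.val_mul, mul_inv_cancel, Units.val_one, Matrix.vecMul_one] at h4
  exact h4

theorem rl_gen : Rl s Ps ∧ Rl j Pj := by
  obtain ⟨L', h', hk⟩ := run_sound codes_gens check28
  have h'' : List.Forall₂ (Codes 112) (LX.map rho) L' := by rw [map_LX]; exact h'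
  have hk' : vchk L' = true := hk
  unfold vchk at hk'
  rw [Bool.and_eq_true, List.all_eq_true, List.all_eq_true] at hk'
  constructor
  · intro i
    have h3 := codes_get h'' 9
    rw [getG_map] at h3
    unfold Codes at h3
    rw [sg_eq]
    show Matrix.vecMul _ ((rho (getG LX 9) : GL (Fin 112) (ZMod 2)) : Matrix (Fin 112) (Fin 112) (ZMod 2)) = _
    rw [h3]
    unfold wv
    rw [← F2Mat.toVec_vmul, Ps_val, Nat.eq_of_beq_eq_true (hk'.1 i (List.mem_range.2 i.2))]
  · intro i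
    have h3 := codes_get h'' 0
    rw [getG_map] at h3
    unfold Codes at h3
    rw [j_eq]
    show Matrix.vecMul _ ((rho (getG LX 0) : GL (Fin 112) (ZMod 2)) : Matrix (Fin 112) (Fin 112) (ZMod 2)) = _
    rw [h3]
    unfold wv
    rw [← F2Mat.toVec_vmul, Pj_val, Nat.eq_of_beq_eq_true (hk'.2 i (List.mem_range.2 i.2))]

theorem rl_ex (g : J) : ∃ σ, Rl g σ := by
  obtain ⟨g, hg⟩ := g
  show ∃ σ, Rl g σ
  unfold J at hg
  induction hg using closure_induction with
  | mem x hx =>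
    rcases hx with rfl | rfl
    · exact ⟨Ps, rl_gen.1⟩
    · exact ⟨Pj, rl_gen.2⟩
  | one => exact ⟨1, rl_one⟩
  | mul x y _ _ h1 h2 =>
    obtain ⟨σ, h1⟩ := h1
    obtain ⟨τ, h2⟩ := h2
    exact ⟨σ * τ, rl_mul h1 h2⟩
  | inv x _ h1 =>
    obtain ⟨σ, h1⟩ := h1
    exact ⟨σ⁻¹, rl_inv h1⟩

/-- the permutation representation of degree 28 -/
noncomputable def psi28 : J →* Equiv.Perm (Fin 28) where
  toFun g := (rl_ex g).choose
  map_one' := rl_uniq (rl_ex 1).choose_spec (by rw [OneMemClass.coe_one]; exact rl_one)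
  map_mul' g h := rl_uniq (rl_ex (g * h)).choose_spec (by
    rw [Subgroup.coe_mul]
    exact rl_mul (rl_ex g).choose_spec (rl_ex h).choose_spec)

/-- the generators -/
noncomputable def sJ : J := ⟨s, s_mem⟩
/-- the generators -/
noncomputable def jJ : J := ⟨j, j_mem⟩

theorem psi_s : psi28 sJ = Ps := rl_uniq (rl_ex sJ).choose_spec rl_gen.1
theorem psi_j : psi28 jJ = Pj := rl_uniq (rl_ex jJ).choose_spec rl_gen.2

/-- representatives -/
def XX : List (List ℕ) := [[], [1, 1, 1, 1], [0, 0, 3, 0, 1], [0, 0, 0, 1], [0, 1, 0, 1], [1, 1], [0, 0, 3], [0], [2], [0, 1], [1]]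
/-- orders of centralizers -/
def NN : List ℕ := [1344, 192, 16, 6, 32, 32, 6, 7, 7, 8, 8]

/-- the `i`-th representative -/
def xw (i : ℕ) : List ℕ := XX.getD i []

/-- the word of `V 1726` -/
def wz : List ℕ := [0, 0, 0, 0, 1, 1, 1, 1, 2, 2, 2, 2]

/-- queries -/
def QQ : List (List ℕ × List ℕ × ℕ) := (XX.zip NN).map (fun p => (p.1, p.1, p.2)) ++
  ((List.range 11).flatMap fun i => (List.range i).map fun k => (xw k, xw i, 0)) ++
  [([1, 1], wz ++ 1 :: wz ++ [1], 0), ([0, 1, 0, 1], 0 :: wz ++ 1 :: 0 :: wz ++ [1], 0)]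

theorem check_cls : PC.chk 28 CC TT UU QQ = true := by decide +kernel

theorem hC : (([sJ, jJ, sJ⁻¹, jJ⁻¹] : List J).map psi28).map PC.code = CC := by
  simp only [List.map_cons, List.map_nil, map_inv, psi_s, psi_j]
  decide +kernel

theorem card_TU : Nat.card J = TT.length * UU.length := by
  rw [card_J]
  rfl

/-- evaluation of words in `J` -/
noncomputable abbrev eJ (w : List ℕ) : J := PC.ev [sJ, jJ, sJ⁻¹, jJ⁻¹] w

theorem cls_le {x : List ℕ} {N : ℕ} (hq : (x, x, N) ∈ QQ) : Nat.card (centralizer ({eJ x} : Set J)) ≤ N :=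
  PC.card_centralizer_le (by norm_num) (by norm_num) psi28 sJ jJ hC card_TU check_cls hq

theorem cls_ne {x y : List ℕ} (hq : (x, y, 0) ∈ QQ) : ¬ IsConj (eJ x) (eJ y) :=
  PC.not_isConj (by norm_num) (by norm_num) psi28 sJ jJ hC card_TU check_cls hq

theorem eJ_eq {v w : List ℕ} (h : PC.evc 28 CC v = PC.evc 28 CC w) : eJ v = eJ w :=
  PC.eq_of_evc (by norm_num) (by norm_num) psi28 sJ jJ hC card_TU check_cls h

/-- the representatives -/
noncomputable def xJ (i : Fin 11) : J := eJ (xw i)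

theorem mem_QQ : ∀ i k : Fin 11, k < i → (xw k, xw i, 0) ∈ QQ := by decide +kernel
theorem mem_QQ' : ∀ i : Fin 11, (xw i, xw i, NN.getD i 0) ∈ QQ := by decide +kernel

theorem xJ_inj (i k : Fin 11) (h : IsConj (xJ i) (xJ k)) : i = k := by
  by_contra hne
  rcases lt_or_gt_of_ne hne with h1 | h1
  · exact cls_ne (mem_QQ k i h1) h
  · exact cls_ne (mem_QQ i k h1) h.symm

/-- `H` has 11 classes -/
theorem card_classes : Nat.card (ConjClasses J) = 11 := by
  refine Cfsg.Agent.H180.KM11.card_classes_eq xJ (fun i => 1344 / NN.getD i 0) xJ_inj ?_ ?_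
  · intro i
    rw [card_J]
    have h1 := cls_le (mem_QQ' i)
    have h2 : ∀ i : Fin 11, 1344 / NN.getD i 0 * NN.getD i 0 ≤ 1344 := by decide +kernel
    exact (Nat.mul_le_mul_left _ h1).trans (h2 i)
  · rw [card_J]
    decide +kernel

theorem exists_rep (g : J) : ∃ i, IsConj (xJ i) g := by
  have h1 : Function.Injective fun i => ConjClasses.mk (xJ i) := by
    intro i k h
    exact xJ_inj i k (ConjClasses.mk_eq_mk_iff_isConj.1 h)
  have h2 : Function.Bijective fun i => ConjClasses.mk (xJ i) := by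
    rw [Nat.bijective_iff_injective_and_card]
    exact ⟨h1, by rw [Nat.card_fin, card_classes]⟩
  obtain ⟨i, hi⟩ := h2.2 (ConjClasses.mk g)
  exact ⟨i, ConjClasses.mk_eq_mk_iff_isConj.1 hi⟩

theorem pow24 : ∀ i : Fin 11, i ≠ 7 → i ≠ 8 → xJ i ^ 24 = 1 := by
  have h1 : ∀ i : Fin 11, i ≠ 7 → i ≠ 8 →
      PC.evc 28 CC (List.replicate 24 (xw i)).flatten = PC.evc 28 CC [] := by decide +kernel
  intro i h7 h8
  have h2 := eJ_eq (h1 i h7 h8)
  have h3 : ∀ n : ℕ, ∀ w : List ℕ, eJ (List.replicate n w).flatten = eJ w ^ n := by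
    intro n w
    induction n with
    | zero => rw [pow_zero]; rfl
    | succ n ih =>
      rw [List.replicate_succ, List.flatten_cons]
      show PC.ev _ (w ++ _) = _
      rw [PC.ev_append, pow_succ']
      congr 1
  rw [h3] at h2
  exact h2

theorem conj_seven (h : J) (ho : orderOf h = 7) : IsConj sJ h ∨ IsConj sJ⁻¹ h := by
  obtain ⟨i, hi⟩ := exists_rep h
  by_cases h7 : i = 7
  · subst h7
    left
    have : xJ 7 = sJ := by
      show PC.ev [sJ, jJ, sJ⁻¹, jJ⁻¹] [0] = sJ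
      rw [PC.ev_cons, PC.ev_nil, mul_one]
      rfl
    rwa [this] at hi
  · by_cases h8 : i = 8
    · subst h8
      right
      have : xJ 8 = sJ⁻¹ := by
        show PC.ev [sJ, jJ, sJ⁻¹, jJ⁻¹] [2] = sJ⁻¹
        rw [PC.ev_cons, PC.ev_nil, mul_one]
        rfl
      rwa [this] at hi
    · exfalso
      obtain ⟨g, hg⟩ := isConj_iff.1 hi
      have h1 : h ^ 24 = 1 := by
        rw [← hg, conj_pow, pow24 i h7 h8, mul_one, mul_inv_cancel]
      have h2 := orderOf_dvd_of_pow_eq_one h1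
      rw [ho] at h2
      norm_num at h2

theorem card_centralizer_le_conj {x y : J} (hc : IsConj x y) :
    Nat.card (centralizer ({y} : Set J)) ≤ Nat.card (centralizer ({x} : Set J)) := by
  obtain ⟨g, rfl⟩ := isConj_iff.1 hc
  refine Nat.card_le_card_of_injective (fun u => ⟨g⁻¹ * u * g, ?_⟩) ?_
  · rw [mem_centralizer_singleton_iff]
    have h1 := mem_centralizer_singleton_iff.1 u.2
    calc g⁻¹ * u * g * x = g⁻¹ * (u * (g * x * g⁻¹)) * g := by group
      _ = g⁻¹ * (g * x * g⁻¹ * u) * g := by rw [h1]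
      _ = x * (g⁻¹ * u * g) := by group
  · intro u v huv
    have h1 : g⁻¹ * (u : J) * g = g⁻¹ * v * g := congrArg Subtype.val huv
    exact Subtype.ext (mul_left_cancel (mul_right_cancel h1))

theorem card_cent_seven (h : J) (ho : orderOf h = 7) : Nat.card (centralizer ({h} : Set J)) = 7 := by
  have h0 : sJ = eJ (xw 7) := by
    show _ = PC.ev [sJ, jJ, sJ⁻¹, jJ⁻¹] [0]
    rw [PC.ev_cons, PC.ev_nil, mul_one]
    rfl
  have h1 : Nat.card (centralizer ({sJ} : Set J)) ≤ 7 := by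
    rw [h0]
    exact cls_le (mem_QQ' 7)
  have h2 : Nat.card (centralizer ({sJ⁻¹} : Set J)) ≤ 7 := by
    have : (centralizer ({sJ⁻¹} : Set J)) = centralizer ({sJ} : Set J) := by
      ext g
      rw [mem_centralizer_singleton_iff, mem_centralizer_singleton_iff]
      constructor
      · intro h
        have : g * sJ⁻¹⁻¹ = sJ⁻¹⁻¹ * g := (show Commute g sJ⁻¹ from h).inv_right
        rwa [inv_inv] at this
      · intro h
        exact (show Commute g sJ from h).inv_right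
    rw [this]
    exact h1
  have h3 : Nat.card (centralizer ({h} : Set J)) ≤ 7 := by
    rcases conj_seven h ho with hc | hc
    · exact (card_centralizer_le_conj hc).trans h1
    · exact (card_centralizer_le_conj hc).trans h2
  have h4 : orderOf h ∣ Nat.card (centralizer ({h} : Set J)) := by
    have := Subgroup.orderOf_dvd_natCard (centralizer ({h} : Set J)) (x := h) (mem_centralizer_singleton_iff.2 rfl)
    exact this
  rw [ho] at h4
  have h5 := Nat.le_of_dvd Nat.card_pos h4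
  omega

theorem conj_sq (h : J) (ho : orderOf h = 7) : IsConj h (h ^ 2) := by
  have h1 : IsConj sJ (sJ ^ 2) := by
    rw [isConj_iff]
    refine ⟨eJ [3, 2, 2, 3, 3], ?_⟩
    have h2 : eJ ([3, 2, 2, 3, 3] ++ [0]) = eJ ([0, 0] ++ [3, 2, 2, 3, 3]) := eJ_eq (by decide +kernel)
    unfold eJ at h2
    rw [PC.ev_append, PC.ev_append] at h2
    have h3 : PC.ev [sJ, jJ, sJ⁻¹, jJ⁻¹] [0] = sJ := by
      rw [PC.ev_cons, PC.ev_nil, mul_one]; rfl
    have h4 : PC.ev [sJ, jJ, sJ⁻¹, jJ⁻¹] [0, 0] = sJ ^ 2 := by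
      rw [PC.ev_cons, h3, pow_two]; rfl
    rw [h3, h4] at h2
    rw [mul_inv_eq_iff_eq_mul]
    exact h2
  have key : ∀ x : J, IsConj x (x ^ 2) → ∀ y, IsConj x y → IsConj y (y ^ 2) := by
    intro x hx y hy
    obtain ⟨g, hg⟩ := isConj_iff.1 hy
    refine hy.symm.trans (hx.trans ?_)
    rw [isConj_iff]
    exact ⟨g, by rw [← hg, conj_pow]⟩
  rcases conj_seven h ho with hc | hc
  · exact key _ h1 _ hc
  · refine key _ ?_ _ hc
    obtain ⟨g, hg⟩ := isConj_iff.1 h1
    rw [isConj_iff]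
    refine ⟨g, ?_⟩
    rw [inv_pow, ← hg]
    group

end Cfsg.Agent.H265.J4LP.Fv
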