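import Cfsg.Agent.H442.ZerosSmall
import Cfsg.Agent.H627.PrincipalCount
import Cfsg.Agent.H34.TI.J4Cols
import Cfsg.Agent.SmallSimple.Simple168Classes
import Cfsg.Agent.S0495
import Cfsg.Agent.S0173
import Cfsg.Agent.S0145

/-!
# The irreducible characters of `2³·L₃(2)` (helper265)

`H` of order 1344 with 11 classes, an epimorphism on a simple group of order 168, centralizers of elements of order 7
of order 7: degrees `1, 3, 3, 6, 7, 8, 14, 7, 7, 21, 21` and the values at elements of order 7.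
-/

set_option autoImplicit false

open Cfsg
open scoped ComplexConjugate

namespace Cfsg.Agent.H265.J4LP.Irr11

open Cfsg.Agent.Characters.Core Cfsg.Agent.H727.DegCount Cfsg.Agent.H442.ZerosSmall Cfsg.Agent.H34.TI

universe u v

section Basic

variable {G : Type u} [Group G]

theorem deg_cast (χ : IrrCharacter G) : (χ : G → ℂ) 1 = ((charDegree (χ : G → ℂ) : ℕ) : ℂ) :=
  Cfsg.Agent.Blocks.Knorr.charDegree_eq χ.2

theorem deg_eq (χ : IrrCharacter G) {d : ℕ} : (χ : G → ℂ) 1 = (d : ℂ) ↔ charDegree (χ : G → ℂ) = d := by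
  rw [deg_cast χ]
  exact ⟨fun h => by exact_mod_cast h, fun h => by rw [h]⟩

/-- composition with an epimorphism -/
noncomputable def infl {H : Type v} [Group H] (f : H →* G) (hf : Function.Surjective f) (χ : IrrCharacter G) :
    IrrCharacter H := ⟨(χ : G → ℂ) ∘ f, isIrr_comp f hf χ.2⟩

theorem infl_apply {H : Type v} [Group H] (f : H →* G) (hf : Function.Surjective f) (χ : IrrCharacter G) (h : H) :
    (infl f hf χ : H → ℂ) h = (χ : G → ℂ) (f h) := rfl

theorem infl_inj {H : Type v} [Group H] (f : H →* G) (hf : Function.Surjective f) :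
    Function.Injective (infl f hf) := by
  intro χ ψ h
  apply Subtype.ext
  funext g
  obtain ⟨x, rfl⟩ := hf g
  exact congrFun (congrArg Subtype.val h) x

theorem infl_deg {H : Type v} [Group H] (f : H →* G) (hf : Function.Surjective f) (χ : IrrCharacter G) :
    charDegree (infl f hf χ : H → ℂ) = charDegree (χ : G → ℂ) := by
  rw [← deg_eq, infl_apply, map_one, deg_cast]

/-- column orthogonality: the sum of squares -/
theorem sum_sq [Finite G] [Fintype (IrrCharacter G)] (g : G) :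
    ∑ χ : IrrCharacter G, Complex.normSq ((χ : G → ℂ) g) = Nat.card (Subgroup.centralizer ({g} : Set G)) := by
  classical
  have := Fintype.ofFinite G
  have h1 := S0145.sum_irr_mul_conj g g
  rw [if_pos (IsConj.refl g)] at h1
  have h2 : ((∑ χ : IrrCharacter G, Complex.normSq ((χ : G → ℂ) g) : ℝ) : ℂ) =
      (Nat.card (Subgroup.centralizer ({g} : Set G)) : ℂ) := by
    rw [← h1]
    push_cast
    exact Finset.sum_congr rfl fun χ _ => by rw [Complex.mul_conj]
  exact_mod_cast h2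

end Basic

section Seven

variable {H : Type u} [Group H] [Finite H] (hc : ∀ h : H, orderOf h = 7 → Nat.card (Subgroup.centralizer ({h} : Set H)) = 7)
  (h2 : ∀ h : H, orderOf h = 7 → IsConj h (h ^ 2))

omit [Finite H] in
theorem irr_conj {χ : IrrCharacter H} {x y : H} (h : IsConj x y) : (χ : H → ℂ) x = (χ : H → ℂ) y := by
  obtain ⟨g, rfl⟩ := isConj_iff.1 h
  exact (isIrr_isClassFunction χ.2 x g).symm

/-- the average over a cyclic subgroup of order 7 -/
theorem avg (χ : IrrCharacter H) {h : H} (ho : orderOf h = 7) :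
    ∃ m : ℕ, ∑ k ∈ Finset.range 7, (χ : H → ℂ) (h ^ k) = 7 * (m : ℂ) := by
  classical
  have := Fintype.ofFinite (Subgroup.zpowers h)
  have h1 : IsCharacter (Subgroup.zpowers h) ((χ : H → ℂ) ∘ (Subgroup.zpowers h).subtype) :=
    isCharacter_comp _ (isIrr_isCharacter χ.2)
  obtain ⟨m, hm⟩ := classInner_isNat h1 (isCharacter_one (G := Subgroup.zpowers h))
  refine ⟨m, ?_⟩
  rw [classInner_def, Nat.card_zpowers, ho] at hm
  have h3 : ∑ k ∈ Finset.range 7, (χ : H → ℂ) (h ^ k) =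
      ∑ g : Subgroup.zpowers h, ((χ : H → ℂ) ∘ (Subgroup.zpowers h).subtype) g * conj ((1 : Subgroup.zpowers h → ℂ) g) := by
    rw [Finset.sum_range]
    let e : Fin 7 ≃ Subgroup.zpowers h := (finCongr ho.symm).trans (finEquivZPowers (isOfFinOrder_of_finite h))
    refine Fintype.sum_equiv e _ _ fun k => ?_
    have h4 : ((e k : Subgroup.zpowers h) : H) = h ^ (k : ℕ) := by
      simp only [e, Equiv.trans_apply, finEquivZPowers_apply]
      rfl
    simp only [Function.comp_apply, Subgroup.coe_subtype, Pi.one_apply, map_one, mul_one]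
    rw [h4]
  rw [h3]
  rw [← hm]
  push_cast
  ring

include h2 in
omit [Finite H] in
theorem val_pow (χ : IrrCharacter H) {h : H} (ho : orderOf h = 7) :
    (χ : H → ℂ) (h ^ 2) = (χ : H → ℂ) h ∧ (χ : H → ℂ) (h ^ 4) = (χ : H → ℂ) h := by
  have e1 : (χ : H → ℂ) (h ^ 2) = (χ : H → ℂ) h := (irr_conj (h2 h ho)).symm
  have o2 : orderOf (h ^ 2) = 7 := by
    obtain ⟨g, hg⟩ := isConj_iff.1 (h2 h ho)
    rw [← hg, ← ho]
    exact (MulAut.conj g).orderOf_eq h
  refine ⟨e1, ?_⟩
  have e2 : (χ : H → ℂ) ((h ^ 2) ^ 2) = (χ : H → ℂ) (h ^ 2) := (irr_conj (h2 _ o2)).symm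
  rw [← pow_mul] at e2
  rw [e2, e1]

include h2 in
omit [Finite H] in
theorem sum_pow (χ : IrrCharacter H) {h : H} (ho : orderOf h = 7) :
    ∑ k ∈ Finset.range 7, (χ : H → ℂ) (h ^ k) =
      (charDegree (χ : H → ℂ) : ℂ) + 3 * ((χ : H → ℂ) h + (χ : H → ℂ) h⁻¹) := by
  have h7 : h ^ 7 = 1 := by rw [← ho]; exact pow_orderOf_eq_one h
  obtain ⟨e1, e2⟩ := val_pow h2 χ ho
  obtain ⟨e3, e4⟩ := val_pow h2 χ (h := h⁻¹) (by rw [orderOf_inv, ho])
  have p6 : h ^ 6 = h⁻¹ := by
    rw [eq_inv_iff_mul_eq_one, ← pow_succ, h7]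
  have p5 : h ^ 5 = h⁻¹ ^ 2 := by
    rw [inv_pow, eq_inv_iff_mul_eq_one, ← pow_add, h7]
  have p3 : h ^ 3 = h⁻¹ ^ 4 := by
    rw [inv_pow, eq_inv_iff_mul_eq_one, ← pow_add, h7]
  simp only [Finset.sum_range_succ, Finset.sum_range_zero, pow_zero, pow_one, p3, p5, p6, e1, e2, e3, e4]
  rw [deg_cast χ]
  ring

include hc in
theorem norm_le (χ : IrrCharacter H) (hd : charDegree (χ : H → ℂ) ≠ 1) {h : H} (ho : orderOf h = 7) :
    Complex.normSq ((χ : H → ℂ) h) ≤ 6 := by
  classical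
  have := finite_irr (G := H)
  have := Fintype.ofFinite (IrrCharacter H)
  have h1 := sum_sq h
  rw [hc h ho] at h1
  let χ₀ : IrrCharacter H := ⟨1, isIrr_one⟩
  have hne : χ ≠ χ₀ := by
    rintro rfl
    apply hd
    rw [← deg_eq]
    show (1 : H → ℂ) 1 = _
    simp
  have h3 : Complex.normSq ((χ : H → ℂ) h) + Complex.normSq ((χ₀ : H → ℂ) h) ≤
      ∑ χ : IrrCharacter H, Complex.normSq ((χ : H → ℂ) h) :=
    Finset.add_le_sum (f := fun χ : IrrCharacter H => Complex.normSq ((χ : H → ℂ) h))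
      (fun _ _ => Complex.normSq_nonneg _) (Finset.mem_univ χ) (Finset.mem_univ χ₀) hne
  have h4 : Complex.normSq ((χ₀ : H → ℂ) h) = 1 := by
    show Complex.normSq ((1 : H → ℂ) h) = 1
    simp
  rw [h4, h1] at h3
  norm_num at h3
  linarith

include hc h2 in
/-- the values at elements of order 7 -/
theorem val (χ : IrrCharacter H) (hd : charDegree (χ : H → ℂ) ≠ 1) {h : H} (ho : orderOf h = 7) :
    ∃ s : ℤ, (χ : H → ℂ) h + (χ : H → ℂ) h⁻¹ = (s : ℂ) ∧ -4 ≤ s ∧ s ≤ 4 ∧
      (7 : ℤ) ∣ s - 2 * (charDegree (χ : H → ℂ) : ℤ) := by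
  obtain ⟨m, hm⟩ := avg χ ho
  rw [sum_pow h2 χ ho] at hm
  have hint : IsIntegral ℤ ((χ : H → ℂ) h + (χ : H → ℂ) h⁻¹) :=
    (Cfsg.Agent.Characters.GaloisBasic.isIntegral_apply (isIrr_isCharacter χ.2) _).add
      (Cfsg.Agent.Characters.GaloisBasic.isIntegral_apply (isIrr_isCharacter χ.2) _)
  have hq : (χ : H → ℂ) h + (χ : H → ℂ) h⁻¹ =
      algebraMap ℚ ℂ ((7 * (m : ℚ) - (charDegree (χ : H → ℂ) : ℚ)) / 3) := by
    rw [eq_ratCast]
    push_cast
    rw [eq_div_iff (by norm_num)]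
    linear_combination hm
  have hint' : IsIntegral ℤ ((7 * (m : ℚ) - (charDegree (χ : H → ℂ) : ℚ)) / 3) := by
    rw [hq] at hint
    exact (isIntegral_algebraMap_iff (algebraMap ℚ ℂ).injective).1 hint
  obtain ⟨s, hs⟩ := IsIntegrallyClosed.isIntegral_iff.1 hint'
  have hs' : (χ : H → ℂ) h + (χ : H → ℂ) h⁻¹ = (s : ℂ) := by
    rw [hq, ← hs]
    simp
  have h3 : 3 * s + (charDegree (χ : H → ℂ) : ℤ) = 7 * (m : ℤ) := by
    have h5 : (3 * s + (charDegree (χ : H → ℂ) : ℤ) : ℂ) = 7 * (m : ℂ) := by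
      rw [← hs']
      rw [← hm]
      push_cast
      ring
    exact_mod_cast h5
  have hinv : (χ : H → ℂ) h⁻¹ = conj ((χ : H → ℂ) h) := isCharacter_apply_inv (isIrr_isCharacter χ.2) h
  have hre : (s : ℝ) = 2 * ((χ : H → ℂ) h).re := by
    have h5 := congrArg Complex.re hs'
    rw [hinv, Complex.add_re, Complex.conj_re] at h5
    have h6 : ((s : ℂ)).re = (s : ℝ) := by simp
    rw [h6] at h5
    linarith
  have hn := norm_le hc χ hd ho
  rw [Complex.normSq_apply] at hn
  have h8 : (s : ℝ) ^ 2 ≤ 24 := by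
    rw [hre]
    nlinarith [mul_self_nonneg ((χ : H → ℂ) h).im]
  have h9 : s ^ 2 ≤ 24 := by exact_mod_cast h8
  refine ⟨s, hs', by nlinarith, by nlinarith, ?_⟩
  exact ⟨5 * m - 2 * s - (charDegree (χ : H → ℂ) : ℤ), by linarith⟩

end Seven

/-! ### Degrees -/

section Deg

variable {H : Type u} [Group H] [Finite H] {T : Type v} [Group T] [Finite T] [IsSimpleGroup T]
  (hT : Nat.card T = 168) (π : H →* T) (hπ : Function.Surjective π) (hH : Nat.card H = 1344)
  (hc : ∀ h : H, orderOf h = 7 → Nat.card (Subgroup.centralizer ({h} : Set H)) = 7)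
  (hk : Nat.card (ConjClasses H) = 11)

include hT in
omit [IsSimpleGroup T] in
theorem deg7 [IsSimpleGroup T] : Deg7 T := by
  have hF : Fintype.card (ZMod 7) = 7 := ZMod.card 7
  obtain ⟨e⟩ := S0495.result (G := T) hT (F := ZMod 7) hF
  have hfin : Finite (Matrix.ProjectiveSpecialLinearGroup (Fin 2) (ZMod 7)) := by
    unfold Matrix.ProjectiveSpecialLinearGroup
    infer_instance
  have D := Cfsg.Agent.H442.ZerosSmall.deg7 (F := ZMod 7) hF
  refine ⟨fun d hd => D.mem d (by rwa [← cnt_congr e]), ?_, ?_, ?_, ?_, ?_⟩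
  · rw [cnt_congr e, D.one]
  · rw [cnt_congr e, D.three]
  · rw [cnt_congr e, D.six]
  · rw [cnt_congr e, D.seven]
  · rw [cnt_congr e, D.eight]

include hT hH hc hπ in
/-- characters of degree not divisible by 7 are inflated -/
theorem exists_infl (χ : IrrCharacter H) (hd : ¬ 7 ∣ charDegree (χ : H → ℂ)) :
    ∃ ψ : IrrCharacter T, infl π hπ ψ = χ := by
  classical
  by_contra hno
  have : Fact (Nat.Prime 7) := ⟨by norm_num⟩
  obtain ⟨h, ho⟩ := exists_prime_orderOf_dvd_card' (G := H) 7 (by rw [hH]; norm_num)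
  have ho' : orderOf (π h) = 7 := by
    have h1 : orderOf (π h) ∣ 7 := by rw [← ho]; exact orderOf_map_dvd π h
    rcases (Nat.dvd_prime (by norm_num)).1 h1 with h2 | h2
    · exfalso
      have h3 : h ∈ π.ker := orderOf_eq_one_iff.1 h2
      have h4 : Nat.card π.ker = 8 := by
        have h5 := π.ker.card_mul_index
        rw [Subgroup.index_ker, MonoidHom.range_eq_top.2 hπ, Subgroup.card_top, hT, hH] at h5
        omega
      have h6 := Subgroup.orderOf_dvd_natCard π.ker h3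
      rw [ho, h4] at h6
      norm_num at h6
    · exact h2
  have := finite_irr (G := H)
  have := finite_irr (G := T)
  have := Fintype.ofFinite (IrrCharacter H)
  have := Fintype.ofFinite (IrrCharacter T)
  have s1 := sum_sq h
  have s2 := sum_sq (π h)
  rw [hc h ho] at s1
  rw [Cfsg.Agent.SmallSimple.Simple168.card_centralizer_seven hT _ ho'] at s2
  have h7 : Finset.univ.image (infl π hπ) ⊆ (Finset.univ.erase χ : Finset (IrrCharacter H)) := by
    intro x hx
    obtain ⟨ψ, -, rfl⟩ := Finset.mem_image.1 hx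
    exact Finset.mem_erase.2 ⟨fun h => hno ⟨ψ, h⟩, Finset.mem_univ _⟩
  have h8 : ∑ x ∈ Finset.univ.image (infl π hπ), Complex.normSq ((x : H → ℂ) h) =
      ∑ ψ : IrrCharacter T, Complex.normSq ((ψ : T → ℂ) (π h)) := by
    rw [Finset.sum_image (fun a _ b _ h => infl_inj π hπ h)]
    rfl
  have h9 := Finset.sum_le_sum_of_subset_of_nonneg (f := fun x : IrrCharacter H => Complex.normSq ((x : H → ℂ) h))
    h7 (fun _ _ _ => Complex.normSq_nonneg _)
  rw [h8, s2] at h9
  have h10 := Finset.sum_erase_add (s := (Finset.univ : Finset (IrrCharacter H)))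
    (f := fun x : IrrCharacter H => Complex.normSq ((x : H → ℂ) h)) (Finset.mem_univ χ)
  rw [s1] at h10
  have h11 : Complex.normSq ((χ : H → ℂ) h) ≤ 0 := by
    linarith
  have h12 : (χ : H → ℂ) h = 0 := by
    rw [← Complex.normSq_eq_zero]
    exact le_antisymm h11 (Complex.normSq_nonneg _)
  exact Cfsg.Agent.H627.PrincipalCount.apply_ne_zero (isIrr_isCharacter χ.2) hd h ⟨1, by rw [ho]; norm_num⟩ h12

include hT hH hc hπ in
theorem cnt_eq_of {d : ℕ} (hd : ¬ 7 ∣ d) : cnt H d = cnt T d := by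
  symm
  refine Nat.card_congr (Equiv.ofBijective (fun ψ => ⟨infl π hπ ψ.1, ?_⟩) ⟨?_, ?_⟩)
  · rw [infl_apply, map_one]
    exact ψ.2
  · intro a b h
    exact Subtype.ext (infl_inj π hπ (congrArg Subtype.val h))
  · rintro ⟨χ, hχ⟩
    obtain ⟨ψ, rfl⟩ := exists_infl hT π hπ hH hc χ (by rw [(deg_eq χ).1 hχ]; exact hd)
    refine ⟨⟨ψ, ?_⟩, rfl⟩
    rwa [infl_apply, map_one] at hχ

include hT hH hc hk hπ in
theorem cnts : cnt H 1 = 1 ∧ cnt H 3 = 2 ∧ cnt H 6 = 1 ∧ cnt H 8 = 1 ∧ cnt H 7 = 3 ∧ cnt H 14 = 1 ∧ cnt H 21 = 2 := by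
  have D := deg7 (T := T) hT
  have c1 := cnt_eq_of hT π hπ hH hc (d := 1) (by norm_num)
  have c3 := cnt_eq_of hT π hπ hH hc (d := 3) (by norm_num)
  have c6 := cnt_eq_of hT π hπ hH hc (d := 6) (by norm_num)
  have c8 := cnt_eq_of hT π hπ hH hc (d := 8) (by norm_num)
  rw [D.one] at c1
  rw [D.three] at c3
  rw [D.six] at c6
  rw [D.eight] at c8
  have hS : ∀ d, 0 < cnt H d → d ∈ ({1, 3, 6, 8, 7, 14, 21, 28, 35} : Finset ℕ) := by
    intro d hd
    by_cases h7 : 7 ∣ d
    · have h1 := le_card_of_cnt_pos hd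
      rw [hH] at h1
      obtain ⟨χ, hχ⟩ := exists_of_cnt_pos hd
      obtain ⟨n, hn, hn'⟩ := isIrr_apply_one χ.2
      have h2 : d = n := by exact_mod_cast hχ.symm.trans hn'
      obtain ⟨e, rfl⟩ := h7
      have h3 : e < 6 := by
        by_contra h4
        have : 42 ≤ 7 * e := by omega
        nlinarith
      interval_cases e
      · omega
      all_goals decide
    · rw [cnt_eq_of hT π hπ hH hc h7] at hd
      have h1 := D.mem d hd
      simp only [Finset.mem_insert, Finset.mem_singleton] at h1 ⊢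
      omega
  have e1 := sum_cnt _ hS
  have e2 := card_classes _ hS
  rw [hH] at e1
  rw [hk] at e2
  rw [Finset.sum_insert (by decide), Finset.sum_insert (by decide), Finset.sum_insert (by decide),
    Finset.sum_insert (by decide), Finset.sum_insert (by decide), Finset.sum_insert (by decide),
    Finset.sum_insert (by decide), Finset.sum_insert (by decide), Finset.sum_singleton, c1, c3, c6, c8] at e1 e2
  refine ⟨c1, c3, c6, c8, ?_⟩
  omega

theorem exists_two {G : Type u} [Group G] {d : ℕ} (h : cnt G d = 2) : ∃ χ ψ : IrrCharacter G, χ ≠ ψ ∧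
    charDegree (χ : G → ℂ) = d ∧ charDegree (ψ : G → ℂ) = d := by
  obtain ⟨a, b, hab, -⟩ := Nat.card_eq_two_iff.1 h
  exact ⟨a.1, b.1, fun h => hab (Subtype.ext h), (deg_eq _).1 a.2, (deg_eq _).1 b.2⟩

theorem exists_one {G : Type u} [Group G] {d : ℕ} (h : cnt G d = 1) : ∃ χ : IrrCharacter G,
    charDegree (χ : G → ℂ) = d := by
  obtain ⟨χ, hχ⟩ := exists_of_cnt_pos (G := G) (d := d) (by omega)
  exact ⟨χ, (deg_eq _).1 hχ⟩

/-- two more characters -/
theorem exists_more {G : Type u} [Group G] [Finite G] {d : ℕ} (h : cnt G d = 3) (χ₀ : IrrCharacter G) :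
    ∃ χ ψ : IrrCharacter G, χ ≠ ψ ∧ χ ≠ χ₀ ∧ ψ ≠ χ₀ ∧
    charDegree (χ : G → ℂ) = d ∧ charDegree (ψ : G → ℂ) = d := by
  classical
  have := finite_irr (G := G)
  have := Fintype.ofFinite (IrrCharacter G)
  have h1 : (Finset.univ.filter fun χ : IrrCharacter G => (χ : G → ℂ) 1 = (d : ℂ)).card = 3 := by
    rw [← h, cnt, Nat.card_eq_fintype_card, Fintype.card_subtype]
  have h2 : 1 < ((Finset.univ.filter fun χ : IrrCharacter G => (χ : G → ℂ) 1 = (d : ℂ)).erase χ₀).card := by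
    have := Finset.pred_card_le_card_erase (s := Finset.univ.filter fun χ : IrrCharacter G => (χ : G → ℂ) 1 = (d : ℂ))
      (a := χ₀)
    omega
  obtain ⟨a, ha, b, hb, hab⟩ := Finset.one_lt_card.1 h2
  rw [Finset.mem_erase, Finset.mem_filter] at ha hb
  exact ⟨a, b, hab, ha.1, hb.1, (deg_eq _).1 ha.2.2, (deg_eq _).1 hb.2.2⟩

theorem t11_dec : ∀ i k : Fin 11, t11 i = t11 k → i = k ∨ (i = 1 ∧ k = 2) ∨ (i = 2 ∧ k = 1) ∨ (i = 4 ∧ k = 7) ∨
    (i = 7 ∧ k = 4) ∨ (i = 4 ∧ k = 8) ∨ (i = 8 ∧ k = 4) ∨ (i = 7 ∧ k = 8) ∨ (i = 8 ∧ k = 7) ∨ (i = 9 ∧ k = 10) ∨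
    (i = 10 ∧ k = 9) := by decide

include hT hH hc hk hπ in
/-- the table -/
theorem exists_th : ∃ th : Fin 11 → IrrCharacter H, Function.Bijective th ∧
    (∀ i, charDegree (th i : H → ℂ) = t11 i) ∧ (∀ i : Fin 11, i < 6 → ∃ ψ : IrrCharacter T, th i = infl π hπ ψ) := by
  have D := deg7 (T := T) hT
  obtain ⟨-, -, -, -, c7, c14, c21⟩ := cnts hT π hπ hH hc hk
  obtain ⟨ψ0, d0⟩ := exists_one D.one
  obtain ⟨ψ1, ψ2, n12, d1, d2⟩ := exists_two D.three
  obtain ⟨ψ3, d3⟩ := exists_one D.six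
  obtain ⟨ψ4, d4⟩ := exists_one D.seven
  obtain ⟨ψ5, d5⟩ := exists_one D.eight
  obtain ⟨χ6, d6⟩ := exists_one c14
  obtain ⟨χ7, χ8, n78, n7, n8, d7, d8⟩ := exists_more c7 (infl π hπ ψ4)
  obtain ⟨χ9, χ10, n9, d9, d10⟩ := exists_two c21
  have hdeg : ∀ i : Fin 11, charDegree (((![infl π hπ ψ0, infl π hπ ψ1, infl π hπ ψ2, infl π hπ ψ3, infl π hπ ψ4,
      infl π hπ ψ5, χ6, χ7, χ8, χ9, χ10] : Fin 11 → IrrCharacter H) i : IrrCharacter H) : H → ℂ) = t11 i := by
    intro i
    fin_cases i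
    · exact (infl_deg π hπ ψ0).trans d0
    · exact (infl_deg π hπ ψ1).trans d1
    · exact (infl_deg π hπ ψ2).trans d2
    · exact (infl_deg π hπ ψ3).trans d3
    · exact (infl_deg π hπ ψ4).trans d4
    · exact (infl_deg π hπ ψ5).trans d5
    · exact d6
    · exact d7
    · exact d8
    · exact d9
    · exact d10
  refine ⟨_, ?_, hdeg, ?_⟩
  · have := finite_irr (G := H)
    rw [Nat.bijective_iff_injective_and_card]
    constructor
    · intro i k h
      have h1 : t11 i = t11 k := by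
        rw [← hdeg i, ← hdeg k, h]
      rcases t11_dec i k h1 with h2 | ⟨rfl, rfl⟩ | ⟨rfl, rfl⟩ | ⟨rfl, rfl⟩ | ⟨rfl, rfl⟩ | ⟨rfl, rfl⟩ |
        ⟨rfl, rfl⟩ | ⟨rfl, rfl⟩ | ⟨rfl, rfl⟩ | ⟨rfl, rfl⟩ | ⟨rfl, rfl⟩
      · exact h2
      · exact absurd (infl_inj π hπ h) n12
      · exact absurd (infl_inj π hπ h.symm) n12
      · exact absurd h.symm n7
      · exact absurd h n7
      · exact absurd h.symm n8
      · exact absurd h n8
      · exact absurd h n78
      · exact absurd h.symm n78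
      · exact absurd h n9
      · exact absurd h.symm n9
    · rw [card_irr, hk, Nat.card_fin]
  · intro i hi
    fin_cases i
    · exact ⟨ψ0, rfl⟩
    · exact ⟨ψ1, rfl⟩
    · exact ⟨ψ2, rfl⟩
    · exact ⟨ψ3, rfl⟩
    · exact ⟨ψ4, rfl⟩
    · exact ⟨ψ5, rfl⟩
    all_goals exact absurd hi (by decide)

end Deg

/-! ### Values -/

section Val

variable {H : Type u} [Group H] [Finite H]
  (hc : ∀ h : H, orderOf h = 7 → Nat.card (Subgroup.centralizer ({h} : Set H)) = 7)
  (h2 : ∀ h : H, orderOf h = 7 → IsConj h (h ^ 2)) (th : Fin 11 → IrrCharacter H) (hb : Function.Bijective th)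
  (hd : ∀ i, charDegree (th i : H → ℂ) = t11 i)

include hb hd in
omit [Finite H] in
theorem th_zero : (th 0 : H → ℂ) = 1 := by
  obtain ⟨i, hi⟩ := hb.2 ⟨1, isIrr_one⟩
  have h1 : charDegree ((⟨1, isIrr_one⟩ : IrrCharacter H) : H → ℂ) = 1 := by
    rw [← deg_eq]
    show (1 : H → ℂ) 1 = _
    simp
  have h3 : t11 i = 1 := by rw [← hd i, hi, h1]
  have h4 : i = 0 := by
    revert h3
    revert i
    intro i _ h
    revert h
    fin_cases i <;> decide
  subst h4
  rw [hi]

include hc h2 hb hd in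
/-- the values at elements of order 7 -/
theorem seven (h : H) (ho : orderOf h = 7) : ∀ b, ∑ i ∈ grp b, ((th i : H → ℂ) h + (th i : H → ℂ) h⁻¹) =
    ((![2, -1, -1, -2, 0, 2, 0, 0, 0] : Fin 9 → ℤ) b : ℂ) := by
  have key : ∀ i : Fin 11, (th i : H → ℂ) h + (th i : H → ℂ) h⁻¹ =
      ((![2, -1, -1, -2, 0, 2, 0, 0, 0, 0, 0] : Fin 11 → ℤ) i : ℂ) := by
    intro i
    by_cases hi : i = 0
    · subst hi
      rw [th_zero th hb hd]
      simp
      norm_num
    · have h1 : charDegree (th i : H → ℂ) ≠ 1 := by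
        rw [hd i]
        revert hi
        fin_cases i <;> decide
      obtain ⟨s, hs, l1, l2, h7⟩ := val hc h2 (th i) h1 ho
      rw [hs, hd i] at *
      congr 1
      revert hi h7
      fin_cases i
      · intro hi; exact absurd rfl hi
      all_goals
        intro _ h7
        change (7 : ℤ) ∣ s - 2 * ((_ : ℕ) : ℤ) at h7
        simp [t11] at h7 ⊢
        omega
  intro b
  simp only [key]
  fin_cases b <;> simp [grp]

end Val

/-! ### The action of an automorphism -/

section Act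

variable {H : Type u} [Group H] [Finite H] {T : Type v} [Group T] (π : H →* T) (hπ : Function.Surjective π)
  (th : Fin 11 → IrrCharacter H) (hb : Function.Bijective th) (hd : ∀ i, charDegree (th i : H → ℂ) = t11 i)
  (hi : ∀ i : Fin 11, i < 6 → ∃ ψ : IrrCharacter T, th i = infl π hπ ψ) (α : H ≃* H) (hα : ∀ h, π (α h) = π h)
  (hf : Nat.card {C : ConjClasses H // ConjClasses.map α.toMonoidHom C = C} ≤ 7)

theorem tau_dec : ∀ a b c d : Fin 11, t11 a = 7 → t11 b = 7 → t11 c = 21 → t11 d = 21 → a ≠ 4 → a ≠ 7 → b ≠ 4 → b ≠ 8 →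
    c ≠ 9 → d ≠ 10 → a = 8 ∧ b = 7 ∧ c = 10 ∧ d = 9 := by
  have h1 : ∀ a : Fin 11, t11 a = 7 → a = 4 ∨ a = 7 ∨ a = 8 := by decide
  have h2 : ∀ a : Fin 11, t11 a = 21 → a = 9 ∨ a = 10 := by decide
  intro a b c d ha hb hc hd n1 n2 n3 n4 n5 n6
  rcases h1 a ha with h | h | h
  · exact absurd h n1
  · exact absurd h n2
  rcases h1 b hb with h' | h' | h'
  · exact absurd h' n3
  · rcases h2 c hc with h3 | h3
    · exact absurd h3 n5
    · rcases h2 d hd with h4 | h4
      · exact ⟨h, h', h3, h4⟩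
      · exact absurd h4 n6
  · exact absurd h' n4

include hb hd hi hα hf in
theorem act (i : Fin 11) (h : H) : (th i : H → ℂ) (α h) =
    (th ((![0, 1, 2, 3, 4, 5, 6, 8, 7, 10, 9] : Fin 11 → Fin 11) i) : H → ℂ) h := by
  classical
  have hαs : Function.Surjective α.toMonoidHom := α.surjective
  have ex : ∀ i, ∃ k, th k = infl α.toMonoidHom hαs (th i) := fun i => hb.2 _
  choose τ hτ using ex
  have hτi : Function.Injective τ := by
    intro a b hab
    have h1 : infl α.toMonoidHom hαs (th a) = infl α.toMonoidHom hαs (th b) := by rw [← hτ, ← hτ, hab]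
    exact hb.1 (infl_inj _ hαs h1)
  have hτd : ∀ i, t11 (τ i) = t11 i := by
    intro i
    rw [← hd (τ i), hτ i, infl_deg, hd i]
  have f6 : ∀ i : Fin 11, i < 6 → τ i = i := by
    intro i h6
    apply hb.1
    rw [hτ i]
    obtain ⟨ψ, hψ⟩ := hi i h6
    rw [hψ]
    apply Subtype.ext
    funext x
    rw [infl_apply, infl_apply, infl_apply]
    exact congrArg _ (hα x)
  have f14 : τ 6 = 6 := by
    have h1 : ∀ a : Fin 11, t11 a = t11 6 → a = 6 := by decide
    exact h1 _ (hτd 6)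
  have hfix : ∀ i, i < 7 → τ i = i := by
    intro i h7
    by_cases h6 : i = 6
    · rw [h6, f14]
    · apply f6
      revert h7 h6
      revert i
      decide
  -- the number of fixed characters
  have hF := S0173.result α
  have hle : Nat.card {χ : IrrCharacter H // (χ : H → ℂ) ∘ α = (χ : H → ℂ)} ≤ 7 := by rw [← hF]; exact hf
  have hcard : (Finset.univ.filter fun i : Fin 11 => τ i = i).card ≤ 7 := by
    have := finite_irr (G := H)
    refine le_trans ?_ hle
    rw [← Fintype.card_subtype, ← Nat.card_eq_fintype_card]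
    refine Nat.card_le_card_of_injective (fun i => ⟨th i.1, ?_⟩) ?_
    · have h1 := hτ i.1
      rw [i.2] at h1
      exact (congrArg Subtype.val h1).symm
    · intro a b hab
      exact Subtype.ext (hb.1 (congrArg Subtype.val hab))
  have hmove : ∀ i, 7 ≤ i → τ i ≠ i := by
    intro i h7 hi
    have h8 : insert i (Finset.univ.filter fun k : Fin 11 => k < 7) ⊆ Finset.univ.filter fun i : Fin 11 => τ i = i := by
      intro k hk
      rw [Finset.mem_insert] at hk
      rw [Finset.mem_filter]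
      refine ⟨Finset.mem_univ _, ?_⟩
      rcases hk with rfl | hk
      · exact hi
      · exact hfix k (Finset.mem_filter.1 hk).2
    have h9 := Finset.card_le_card h8
    rw [Finset.card_insert_of_notMem (by
      rw [Finset.mem_filter]
      rintro ⟨-, h⟩
      exact absurd h (not_lt.2 h7))] at h9
    have h10 : (Finset.univ.filter fun k : Fin 11 => k < 7).card = 7 := by decide
    omega
  have n4 : ∀ i, i ≠ 4 → τ i ≠ 4 := by
    intro i h h'
    apply h
    apply hτi
    rw [h', f6 4 (by decide)]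
  obtain ⟨e7, e8, e9, e10⟩ := tau_dec (τ 7) (τ 8) (τ 9) (τ 10) (hτd 7) (hτd 8) (hτd 9) (hτd 10) (n4 7 (by decide))
    (hmove 7 (by decide)) (n4 8 (by decide)) (hmove 8 (by decide)) (hmove 9 (by decide)) (hmove 10 (by decide))
  have hτe : ∀ i, τ i = (![0, 1, 2, 3, 4, 5, 6, 8, 7, 10, 9] : Fin 11 → Fin 11) i := by
    intro i
    fin_cases i
    · exact hfix 0 (by decide)
    · exact hfix 1 (by decide)
    · exact hfix 2 (by decide)
    · exact hfix 3 (by decide)
    · exact hfix 4 (by decide)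
    · exact hfix 5 (by decide)
    · exact hfix 6 (by decide)
    · exact e7
    · exact e8
    · exact e9
    · exact e10
  rw [← hτe, hτ i, infl_apply]
  rfl

end Act

end Cfsg.Agent.H265.J4LP.Irr11
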