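import Cfsg.Agent.H265.J4LP.FiveCls
import Cfsg.Agent.H265.J4LP.Irr11

/-!
# S4819, S4820: the irreducible characters of `H = C(5)/5` in `J₄` (helper265)
-/

set_option autoImplicit false
set_option maxRecDepth 20000

namespace Cfsg.Agent.H265.J4LP.Fv

open Subgroup
open Cfsg.Agent.Lib Cfsg.Agent.Lib.F2MatGroup
open Cfsg.Agent.J4.Rep112 Cfsg.Agent.J4.Pres Cfsg.Agent.J4.M24Hom Cfsg.Agent.J4.LowerData
open Cfsg.Agent.J4.Beta Cfsg.Agent.J4.Classes Cfsg.Agent.J4.Lower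
open Cfsg.Agent.H858 Cfsg.Agent.H858.VK Cfsg.Agent.H858.Data Cfsg.Agent.H858.Elem Cfsg.Agent.H858.Pent
open Cfsg.Agent.H858.Norm57 Cfsg.Agent.H858.Abs Cfsg.Agent.H858.Loc7 Cfsg.Agent.H858.Loc5
open Cfsg.Agent.H34.TI

local notation "𝒢" => Cfsg.Spor.J4

theorem check_z : run 112 (slpQ ++ slpX) codes
    (fun L => eqs 112 [([9, 9, 9, 9, 0, 0, 0, 0], bb 1726 ++ [9, 9, 9, 9])] L) = true := by
  decide +kernel

theorem z_word : s ^ 4 * j ^ 4 = V 1726 * s ^ 4 := by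
  obtain ⟨L', h', hk⟩ := run_sound codes_gens check_z
  have h'' : List.Forall₂ (Codes 112) (LX.map rho) L' := by rw [map_LX]; exact h'
  have h : evG LX [9, 9, 9, 9, 0, 0, 0, 0] = evG LX (bb 1726 ++ [9, 9, 9, 9]) := by
    apply rho_injective
    rw [← evG_map, ← evG_map]
    exact eqs_sound h'' hk ([9, 9, 9, 9, 0, 0, 0, 0], bb 1726 ++ [9, 9, 9, 9]) (List.mem_singleton.2 rfl)
  rw [Cfsg.Agent.H859.PGLWords.evG_append, evG_bb] at h
  simp only [evG_cons, evG_nil, mul_one] at h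
  rw [sg_eq, j_eq]
  simp only [pow_succ, pow_zero, one_mul, mul_assoc] at h ⊢
  exact h

theorem V_word : V 1726 = s ^ 4 * j ^ 4 * (s ^ 4)⁻¹ := by rw [z_word]; group

theorem r_norm (h : 𝒢) (hh : h ∈ J) : r * h * r⁻¹ ∈ J := by
  have h1 := mod_J h hh
  have h2 : r * h * r⁻¹ = (r * h * r⁻¹ * h⁻¹) * h := by group
  rw [h2]
  exact J.mul_mem (Z_le_J h1) hh

/-- conjugation by `r` -/
noncomputable def cr : J →* J where
  toFun h := ⟨r * h * r⁻¹, r_norm h h.2⟩
  map_one' := Subtype.ext (by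
    show r * ((1 : J) : 𝒢) * r⁻¹ = 1
    rw [OneMemClass.coe_one]; group)
  map_mul' a b := Subtype.ext (by
    show r * ((a * b : J) : 𝒢) * r⁻¹ = (r * a * r⁻¹) * (r * b * r⁻¹)
    rw [Subgroup.coe_mul]; group)

theorem cr_apply (h : J) : ((cr h : J) : 𝒢) = r * h * r⁻¹ := rfl

theorem cr_inj : Function.Injective cr := by
  intro a b h
  have h1 : r * (a : 𝒢) * r⁻¹ = r * b * r⁻¹ := congrArg Subtype.val h
  exact Subtype.ext (mul_left_cancel (mul_right_cancel h1))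

/-- conjugation by `r` -/
noncomputable def al : J ≃* J := MulEquiv.ofBijective cr (Finite.injective_iff_bijective.1 cr_inj)

theorem al_apply (h : J) : al h = cr h := rfl

theorem al_s : al sJ = sJ := by
  apply Subtype.ext
  show r * s * r⁻¹ = s
  rw [r_mul_s]; group

theorem al_j : al jJ = eJ (wz ++ [1]) := by
  apply Subtype.ext
  have h1 : eJ (wz ++ [1]) = sJ ^ 4 * jJ ^ 4 * (sJ ^ 4)⁻¹ * jJ := by
    unfold eJ wz
    simp only [List.cons_append, List.nil_append, PC.ev_cons, PC.ev_nil, mul_one]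
    show sJ * (sJ * (sJ * (sJ * (jJ * (jJ * (jJ * (jJ * (sJ⁻¹ * (sJ⁻¹ * (sJ⁻¹ * (sJ⁻¹ * jJ))))))))))) = _
    simp only [pow_succ, pow_zero, one_mul, mul_inv_rev, mul_assoc]
  rw [h1]
  show r * j * r⁻¹ = s ^ 4 * j ^ 4 * (s ^ 4)⁻¹ * j
  rw [← V_word, r_j]
  group

theorem eJ_mul (v w : List ℕ) : eJ v * eJ w = eJ (v ++ w) := (PC.ev_append _ _ _).symm

theorem eJ_s : eJ [0] = sJ := by
  show PC.ev [sJ, jJ, sJ⁻¹, jJ⁻¹] [0] = sJ
  rw [PC.ev_cons, PC.ev_nil, mul_one]; rfl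

theorem eJ_j : eJ [1] = jJ := by
  show PC.ev [sJ, jJ, sJ⁻¹, jJ⁻¹] [1] = jJ
  rw [PC.ev_cons, PC.ev_nil, mul_one]; rfl

theorem eJ_sj : eJ [0, 1] = sJ * jJ := by
  rw [← eJ_s, ← eJ_j, eJ_mul]; rfl

theorem al_sj : al (sJ * jJ) = eJ (0 :: wz ++ [1]) := by
  rw [map_mul, al_s, al_j, ← eJ_s, eJ_mul]; rfl

theorem nc_j2 : ¬ IsConj (jJ * jJ) (al (jJ * jJ)) := by
  rw [map_mul, al_j, ← eJ_j, eJ_mul, eJ_mul]
  exact cls_ne (x := [1, 1]) (y := wz ++ 1 :: wz ++ [1]) (by decide +kernel)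

theorem nc_sj2 : ¬ IsConj (sJ * jJ * (sJ * jJ)) (al (sJ * jJ * (sJ * jJ))) := by
  rw [map_mul, al_sj, ← eJ_sj, eJ_mul, eJ_mul]
  exact cls_ne (x := [0, 1, 0, 1]) (y := 0 :: wz ++ 1 :: 0 :: wz ++ [1]) (by decide +kernel)

theorem nc_sq {x : J} (h : ¬ IsConj (x * x) (al (x * x))) : ¬ IsConj x (al x) := by
  intro hc
  apply h
  obtain ⟨g, hg⟩ := isConj_iff.1 hc
  rw [isConj_iff, map_mul]
  exact ⟨g, by rw [← hg]; group⟩

/-- four classes are not fixed -/
theorem fixed_le : Nat.card {C : ConjClasses J // ConjClasses.map al.toMonoidHom C = C} ≤ 7 := by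
  classical
  have : Finite (ConjClasses J) := inferInstance
  have := Fintype.ofFinite (ConjClasses J)
  have hcl : Fintype.card (ConjClasses J) = 11 := by rw [← Nat.card_eq_fintype_card, card_classes]
  rw [Nat.card_eq_fintype_card, Fintype.card_subtype]
  have e9 : xJ 9 = sJ * jJ := eJ_sj
  have e10 : xJ 10 = jJ := eJ_j
  have e5 : xJ 5 = jJ * jJ := by
    rw [← eJ_j, eJ_mul]; rfl
  have e4 : xJ 4 = sJ * jJ * (sJ * jJ) := by
    rw [← eJ_sj, eJ_mul]; rfl
  have hn : ∀ i : Fin 11, i = 4 ∨ i = 5 ∨ i = 9 ∨ i = 10 →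
      ConjClasses.map al.toMonoidHom (ConjClasses.mk (xJ i)) ≠ ConjClasses.mk (xJ i) := by
    intro i hi h
    have h1 : IsConj (xJ i) (al (xJ i)) := (ConjClasses.mk_eq_mk_iff_isConj.1 h).symm
    rcases hi with rfl | rfl | rfl | rfl
    · rw [e4] at h1; exact nc_sj2 h1
    · rw [e5] at h1; exact nc_j2 h1
    · rw [e9] at h1; exact nc_sq nc_sj2 h1
    · rw [e10] at h1; exact nc_sq nc_j2 h1
  have h1 : Function.Injective fun i => ConjClasses.mk (xJ i) := by
    intro i k h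
    exact xJ_inj i k (ConjClasses.mk_eq_mk_iff_isConj.1 h)
  have h2 : (({4, 5, 9, 10} : Finset (Fin 11)).image fun i => ConjClasses.mk (xJ i)) ⊆
      Finset.univ \ (Finset.univ.filter fun C : ConjClasses J => ConjClasses.map al.toMonoidHom C = C) := by
    intro C hC
    obtain ⟨i, hi, rfl⟩ := Finset.mem_image.1 hC
    rw [Finset.mem_sdiff, Finset.mem_filter]
    refine ⟨Finset.mem_univ _, fun h => hn i ?_ h.2⟩
    simpa using hi
  have h3 := Finset.card_le_card h2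
  rw [Finset.card_image_of_injective _ h1, Finset.card_sdiff_of_subset (Finset.filter_subset _ _), Finset.card_univ,
    hcl] at h3
  have h4 : ({4, 5, 9, 10} : Finset (Fin 11)).card = 4 := by decide
  have h5 := Finset.card_filter_le (Finset.univ : Finset (ConjClasses J))
    (fun C : ConjClasses J => ConjClasses.map al.toMonoidHom C = C)
  rw [Finset.card_univ, hcl] at h5
  omega

theorem pi_al (h : J) : πJ (al h) = πJ h := by
  have h1 : al h * h⁻¹ ∈ πJ.ker := by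
    apply Z_le_ker
    rw [Subgroup.mem_subgroupOf]
    exact mod_J h h.2
  rw [MonoidHom.mem_ker, map_mul, map_inv, mul_inv_eq_one] at h1
  exact h1

/-- **the irreducible characters of `H` and the action of `n`** -/
theorem irrH : ∃ th : Fin 11 → IrrCharacter D.H, IrrH D.H th ∧ ActH D.H D.n th := by
  have := oct_Z.simple_aut
  have := oct_Z.finite_aut
  obtain ⟨th, hb, hd, hi⟩ := Irr11.exists_th (T := MulAut Z) oct_Z.card_aut πJ πJ_surjective card_J card_cent_seven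
    card_classes
  refine ⟨th, ⟨hb, hd, fun h ho b => Irr11.seven card_cent_seven conj_sq th hb hd h ho b⟩,
    ⟨fun h hh => r_norm h hh, fun i h => ?_⟩⟩
  exact Irr11.act πJ πJ_surjective th hb hd hi al pi_al fixed_le i h

end Cfsg.Agent.H265.J4LP.Fv
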