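import Cfsg.Agent.H265.J4LP.Abs
import Cfsg.Agent.H265.J4LP.Defs
import Cfsg.Agent.H858.Loc7

/-!
# S4819, S4820: the elements of `J₄` of order divisible by 7 (helper265)
-/

set_option autoImplicit false
set_option maxRecDepth 20000

namespace Cfsg.Agent.H265.J4LP

open Subgroup

/-- an element of order 7 and the symmetric group commuting with it -/
structure Data7 (G : Type*) [Group G] where
  y : G
  psi : Equiv.Perm (Fin 5) →* G

/-- the facts -/
structure Seven {G : Type*} [Group G] (D : Data7 G) : Prop where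
  ord_y : orderOf D.y = 7
  inj : Function.Injective D.psi
  comm : ∀ s, D.y * D.psi s = D.psi s * D.y
  form : ∀ g, g * D.y = D.y * g → ∃ (i : ℕ) (s : Equiv.Perm (Fin 5)), g = D.y ^ i * D.psi s
  card_cent : ∀ s, Nat.card (centralizer ({D.y * D.psi s} : Set G)) = 7 * Nat.card (centralizer ({s} : Set (Equiv.Perm (Fin 5))))
  card_cent' : ∀ s, Nat.card (centralizer ({D.y⁻¹ * D.psi s} : Set G)) = 7 * Nat.card (centralizer ({s} : Set (Equiv.Perm (Fin 5))))
  ord : ∀ s, orderOf (D.y * D.psi s) = 7 * orderOf s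
  conj_iff : ∀ s s', IsConj (D.y * D.psi s) (D.y * D.psi s') ↔ IsConj s s'
  not_conj : ∀ s s', ¬ IsConj (D.y * D.psi s) (D.y⁻¹ * D.psi s')
  pow : ∀ s, ∀ k ∈ [1, 2, 4], IsConj (D.y ^ k * D.psi s) (D.y * D.psi s)
  pow' : ∀ s, ∀ k ∈ [3, 5, 6], IsConj (D.y ^ k * D.psi s) (D.y⁻¹ * D.psi s)
  exhaust : ∀ g : G, 7 ∣ orderOf g → ∃ s, IsConj g (D.y * D.psi s) ∨ IsConj g (D.y⁻¹ * D.psi s)

namespace Sv

open Cfsg.Agent.Lib.F2MatGroup
open Cfsg.Agent.J4.Rep112 Cfsg.Agent.J4.Pres Cfsg.Agent.J4.M24Hom Cfsg.Agent.J4.LowerData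
open Cfsg.Agent.J4.Beta Cfsg.Agent.J4.Classes Cfsg.Agent.J4.Lower
open Cfsg.Agent.H858 Cfsg.Agent.H858.VK Cfsg.Agent.H858.Data Cfsg.Agent.H858.Elem Cfsg.Agent.H858.Pent
open Cfsg.Agent.H858.Norm57 Cfsg.Agent.H858.Abs Cfsg.Agent.H858.Loc7

local notation "𝒢" => Cfsg.Spor.J4

/-! ### the element normalizing `⟨s⟩` and centralizing `S₅` -/

def slp7 : List (List ℕ) := [le.map ixK, [4, 4, 4, 4, 30, 4, 30, 4, 4, 4, 4, 0]]

def es7 : List (List ℕ × List ℕ) := [([0, 5], [5, 0]), ([0, 31], [31, 0])]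

theorem check7 : run 112 ((slpQ ++ slpX) ++ slp7) codes (fun L => eqs 112 es7 L) = true := by decide +kernel

/-- the environment -/
noncomputable def L7 : List 𝒢 := runG slp7 LX

theorem map_L7 : L7.map rho = runG ((slpQ ++ slpX) ++ slp7) mgens := by
  unfold L7
  rw [← runG_map, map_LX, ← runG_append]

theorem sound7 : ∀ p ∈ es7, evG L7 p.1 = evG L7 p.2 := by
  obtain ⟨L', h', hk⟩ := run_sound codes_gens check7
  have h'' : List.Forall₂ (Codes 112) (L7.map rho) L' := by rw [map_L7]; exact h'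
  intro p hp
  apply rho_injective
  rw [← evG_map, ← evG_map]
  exact eqs_sound h'' hk p hp

/-- the element -/
noncomputable def e1 : 𝒢 := f * (f * (f * (f * (t * (f * (t * (f * (f * (f * (f * e))))))))))

theorem i1 : getG L7 1 = e := by
  have h : getG L7 1 = evG LX (le.map ixK) := rfl
  rw [h, ← phi_kw]
  rfl

theorem i5 : getG L7 5 = f := by rw [f_eq]; rfl
theorem i31 : getG L7 31 = t := rfl

theorem i0 : getG L7 0 = e1 := by
  have h : getG L7 0 = getG L7 5 * (getG L7 5 * (getG L7 5 * (getG L7 5 * (getG L7 31 * (getG L7 5 * (getG L7 31 *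
    (getG L7 5 * (getG L7 5 * (getG L7 5 * (getG L7 5 * (getG L7 1 * 1))))))))))) := rfl
  rw [h, i1, i5, i31, mul_one]
  rfl

theorem e1_f : e1 * f = f * e1 := by
  have h := sound7 ([0, 5], [5, 0]) (by decide)
  simp only [evG_cons, evG_nil, mul_one, i0, i5] at h
  exact h

theorem e1_t : e1 * t = t * e1 := by
  have h := sound7 ([0, 31], [31, 0]) (by decide)
  simp only [evG_cons, evG_nil, mul_one, i0, i31] at h
  exact h

theorem e1_s : e1 * s * e1⁻¹ = s ^ 2 := by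
  have hf : Commute f s := f_mul_s
  have ht : Commute t s := t_mul_s
  have he : e * s * e⁻¹ = s ^ 2 := by rw [mul_inv_eq_iff_eq_mul, e_mul_s, pow_two]
  have h1 : Commute (f * (f * (f * (f * (t * (f * (t * (f * (f * (f * f)))))))))) s :=
    hf.mul_left (hf.mul_left (hf.mul_left (hf.mul_left (ht.mul_left (hf.mul_left (ht.mul_left (hf.mul_left
      (hf.mul_left (hf.mul_left hf)))))))))
  have h2 : e1 = (f * (f * (f * (f * (t * (f * (t * (f * (f * (f * f)))))))))) * e := by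
    unfold e1; simp only [mul_assoc]
  rw [h2]
  generalize (f * (f * (f * (f * (t * (f * (t * (f * (f * (f * f)))))))))) = a at h1
  have h3 : a * s ^ 2 * a⁻¹ = s ^ 2 := by rw [(h1.pow_right 2).eq, mul_inv_cancel_right]
  calc a * e * s * (a * e)⁻¹ = a * (e * s * e⁻¹) * a⁻¹ := by group
    _ = s ^ 2 := by rw [he, h3]

/-! ### the symmetric group -/

theorem pI_bij : Function.Bijective pI := by
  rw [Nat.bijective_iff_surjective_and_card]
  refine ⟨pI_surjective, ?_⟩
  rw [card_I0, Nat.card_eq_fintype_card, Fintype.card_perm, Fintype.card_fin]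
  rfl

/-- the embedding -/
noncomputable def psi : Equiv.Perm (Fin 5) →* 𝒢 := I0.subtype.comp (MulEquiv.ofBijective pI pI_bij).symm.toMonoidHom

theorem psi_inj : Function.Injective psi :=
  I0.subtype_injective.comp (MulEquiv.ofBijective pI pI_bij).symm.injective

theorem range_psi : psi.range = I0 := by
  ext g
  constructor
  · rintro ⟨s, rfl⟩
    exact ((MulEquiv.ofBijective pI pI_bij).symm s).2
  · intro hg
    refine ⟨pI ⟨g, hg⟩, ?_⟩
    show (((MulEquiv.ofBijective pI pI_bij).symm (pI ⟨g, hg⟩) : I0) : 𝒢) = g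
    have h : (MulEquiv.ofBijective pI pI_bij).symm (pI ⟨g, hg⟩) = ⟨g, hg⟩ :=
      (MulEquiv.ofBijective pI pI_bij).symm_apply_apply ⟨g, hg⟩
    rw [h]

theorem psi_mem (σ : Equiv.Perm (Fin 5)) : psi σ ∈ I0 := range_psi ▸ ⟨σ, rfl⟩

theorem psi_of {g : 𝒢} (hg : g ∈ I0) : psi (pI ⟨g, hg⟩) = g := by
  show (((MulEquiv.ofBijective pI pI_bij).symm (pI ⟨g, hg⟩) : I0) : 𝒢) = g
  have h : (MulEquiv.ofBijective pI pI_bij).symm (pI ⟨g, hg⟩) = ⟨g, hg⟩ :=
    (MulEquiv.ofBijective pI pI_bij).symm_apply_apply ⟨g, hg⟩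
  rw [h]

theorem cent_S7 : centralizer (S7 : Set 𝒢) = centralizer ({s} : Set 𝒢) := by
  rw [S7_eq', NormC.centralizer_zpowers]

theorem comm_s (σ : Equiv.Perm (Fin 5)) : s * psi σ = psi σ * s := by
  have h := I0_le_C (psi_mem σ)
  rw [cent_S7] at h
  exact (mem_centralizer_singleton_iff.1 h).symm

theorem orderOf_s : orderOf s = 7 := by
  have : Fact (Nat.Prime 7) := ⟨by norm_num⟩
  exact orderOf_eq_prime s_pow s_ne

theorem card_perm : Nat.card (Equiv.Perm (Fin 5)) = 120 := by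
  rw [Nat.card_eq_fintype_card, Fintype.card_perm, Fintype.card_fin]; rfl

instance : Finite 𝒢 := FixJ4.facts.1

theorem spl : Spl 7 s (zpowers s) psi where
  prime := by norm_num
  inj := psi_inj
  comm := comm_s
  ord := orderOf_s
  pgp := IsPGroup.of_card (n := 1) (by rw [Nat.card_zpowers, orderOf_s, pow_one])
  mem := mem_zpowers s
  cent := by
    rintro _ ⟨i, rfl⟩
    exact ((Commute.refl s).zpow_right i).eq
  norm := by
    rw [← cent_S7, ← S7_eq']
    exact Subgroup.centralizer_le_normalizer _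
  card := by
    rw [← cent_S7, card_C, Nat.card_zpowers, orderOf_s, card_perm]
  cop := by rw [card_perm]; norm_num

theorem central (u : 𝒢) (hu : u ∈ zpowers s) (σ : Equiv.Perm (Fin 5)) : u * psi σ = psi σ * u := by
  obtain ⟨i, rfl⟩ := hu
  exact ((show Commute s (psi σ) from comm_s σ).zpow_left i).eq

theorem e1_psi (σ : Equiv.Perm (Fin 5)) : e1 * psi σ = psi σ * e1 := by
  have h1 : I0 ≤ centralizer ({e1} : Set 𝒢) := by
    unfold I0
    rw [closure_le]
    rintro _ (rfl | rfl)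
    · exact mem_centralizer_singleton_iff.2 e1_f.symm
    · exact mem_centralizer_singleton_iff.2 e1_t.symm
  exact (mem_centralizer_singleton_iff.1 (h1 (psi_mem σ))).symm

theorem fix_all (σ : Equiv.Perm (Fin 5)) : zpowers s ⊓ centralizer ({psi σ} : Set 𝒢) = zpowers s := by
  apply le_antisymm inf_le_left
  exact le_inf le_rfl fun u hu => mem_centralizer_singleton_iff.2 (central u hu σ)

theorem card_cent (σ : Equiv.Perm (Fin 5)) : Nat.card (centralizer ({s * psi σ} : Set 𝒢)) =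
    7 * Nat.card (centralizer ({σ} : Set (Equiv.Perm (Fin 5)))) := by
  rw [spl.card_cent, fix_all, Nat.card_zpowers, orderOf_s]

/-- `s⁻¹` -/
theorem spl' : Spl 7 s⁻¹ (zpowers s) psi where
  prime := by norm_num
  inj := psi_inj
  comm := fun σ => central _ (inv_mem (mem_zpowers s)) σ
  ord := by rw [orderOf_inv]; exact orderOf_s
  pgp := spl.pgp
  mem := inv_mem (mem_zpowers s)
  cent := by
    rintro _ ⟨i, rfl⟩
    exact ((Commute.refl s).inv_left.zpow_right i).eq
  norm := by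
    have h : centralizer ({s⁻¹} : Set 𝒢) = centralizer ({s} : Set 𝒢) := by
      ext g
      rw [mem_centralizer_singleton_iff, mem_centralizer_singleton_iff]
      constructor
      · intro h
        exact (show Commute g s from by simpa using (show Commute g s⁻¹ from h).inv_right).eq
      · intro h
        exact ((show Commute g s from h).inv_right).eq
    rw [h]
    exact spl.norm
  card := by
    have h : centralizer ({s⁻¹} : Set 𝒢) = centralizer ({s} : Set 𝒢) := by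
      ext g
      rw [mem_centralizer_singleton_iff, mem_centralizer_singleton_iff]
      constructor
      · intro h
        exact (show Commute g s from by simpa using (show Commute g s⁻¹ from h).inv_right).eq
      · intro h
        exact ((show Commute g s from h).inv_right).eq
    rw [h]
    exact spl.card
  cop := spl.cop

theorem card_cent' (σ : Equiv.Perm (Fin 5)) : Nat.card (centralizer ({s⁻¹ * psi σ} : Set 𝒢)) =
    7 * Nat.card (centralizer ({σ} : Set (Equiv.Perm (Fin 5)))) := by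
  rw [spl'.card_cent, fix_all, Nat.card_zpowers, orderOf_s]

theorem e1_pow (m : ℕ) : ∀ k : ℕ, e1 ^ m * s ^ k * (e1 ^ m)⁻¹ = s ^ (2 ^ m * k) := by
  induction m with
  | zero => intro k; simp
  | succ m ih =>
    intro k
    have h1 : e1 ^ (m + 1) * s ^ k * (e1 ^ (m + 1))⁻¹ = e1 ^ m * (e1 * s ^ k * e1⁻¹) * (e1 ^ m)⁻¹ := by
      rw [pow_succ]; group
    rw [h1, ← conj_pow, e1_s, ← pow_mul, ih, pow_succ, mul_assoc]

theorem s_pow_mod {m n : ℕ} (h : m % 7 = n % 7) : s ^ m = s ^ n :=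
  (pow_eq_pow_iff_modEq (x := s)).2 (orderOf_s.symm ▸ h)

theorem conj_pow_psi (m k l : ℕ) (h : 2 ^ m * k % 7 = l % 7) (σ : Equiv.Perm (Fin 5)) :
    IsConj (s ^ k * psi σ) (s ^ l * psi σ) := by
  refine isConj_iff.2 ⟨e1 ^ m, ?_⟩
  have h1 : e1 ^ m * psi σ = psi σ * e1 ^ m := ((show Commute e1 (psi σ) from e1_psi σ).pow_left m).eq
  calc e1 ^ m * (s ^ k * psi σ) * (e1 ^ m)⁻¹ = (e1 ^ m * s ^ k * (e1 ^ m)⁻¹) * (e1 ^ m * psi σ) * (e1 ^ m)⁻¹ := by
        group
    _ = s ^ l * psi σ := by rw [e1_pow, h1, s_pow_mod h]; group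

theorem pow_psi (σ : Equiv.Perm (Fin 5)) : ∀ k ∈ [1, 2, 4], IsConj (s ^ k * psi σ) (s * psi σ) := by
  have h : ∀ k : ℕ, IsConj (s ^ k * psi σ) (s ^ 1 * psi σ) → IsConj (s ^ k * psi σ) (s * psi σ) := by
    intro k h
    rwa [pow_one] at h
  intro k hk
  simp only [List.mem_cons, List.not_mem_nil, or_false] at hk
  apply h
  rcases hk with rfl | rfl | rfl
  · exact conj_pow_psi 0 1 1 (by norm_num) σ
  · exact conj_pow_psi 2 2 1 (by norm_num) σ
  · exact conj_pow_psi 1 4 1 (by norm_num) σ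

theorem s_inv : s⁻¹ = s ^ 6 := inv_eq_of_mul_eq_one_right ((pow_succ' s 6).symm.trans s_pow)

theorem pow_psi' (σ : Equiv.Perm (Fin 5)) : ∀ k ∈ [3, 5, 6], IsConj (s ^ k * psi σ) (s⁻¹ * psi σ) := by
  intro k hk
  simp only [List.mem_cons, List.not_mem_nil, or_false] at hk
  rw [s_inv]
  rcases hk with rfl | rfl | rfl
  · exact conj_pow_psi 1 3 6 (by norm_num) σ
  · exact conj_pow_psi 2 5 6 (by norm_num) σ
  · exact conj_pow_psi 0 6 6 (by norm_num) σ

theorem not_conj_inv (g : 𝒢) : g * s * g⁻¹ ≠ s⁻¹ := by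
  intro h
  have hgN : g ∈ normalizer (S7 : Set 𝒢) := by
    rw [S7_eq']
    refine NormC.mem_normalizer_zpowers (k := 6) ?_
    rw [h, s_inv]
  set N := normalizer (S7 : Set 𝒢) with hN
  set C := centralizer (S7 : Set 𝒢) with hC
  have hn : (C.subgroupOf N).Normal := by
    refine ⟨fun x hx n => ?_⟩
    rw [mem_subgroupOf] at hx ⊢
    rw [hC, mem_centralizer_iff] at hx ⊢
    intro a ha
    have h1 : (n : 𝒢)⁻¹ * a * n ∈ S7 := by
      have := (mem_normalizer_iff.1 (inv_mem n.2) a).1 ha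
      rwa [inv_inv] at this
    have h2 := hx _ h1
    show a * (n * x * (n : 𝒢)⁻¹) = n * x * (n : 𝒢)⁻¹ * a
    calc a * (n * x * (n : 𝒢)⁻¹) = n * ((n : 𝒢)⁻¹ * a * n * x) * (n : 𝒢)⁻¹ := by group
      _ = n * (x * ((n : 𝒢)⁻¹ * a * n)) * (n : 𝒢)⁻¹ := by rw [h2]
      _ = _ := by group
  have hCN : C ≤ N := Subgroup.centralizer_le_normalizer _
  have hidx : (C.subgroupOf N).index = 3 := by
    have h1 := (C.subgroupOf N).card_mul_index
    rw [Nat.card_congr (subgroupOfEquivOfLe hCN).toEquiv, card_C, card_normalizer_S7] at h1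
    omega
  have h3 := Subgroup.pow_index_mem (C.subgroupOf N) (⟨g, hgN⟩ : N)
  rw [hidx, mem_subgroupOf] at h3
  have h3' : g ^ 3 ∈ C := h3
  rw [hC, cent_S7] at h3'
  have h4 : g ^ 3 * s = s * g ^ 3 := mem_centralizer_singleton_iff.1 h3'
  have h5 : g ^ 3 * s * (g ^ 3)⁻¹ = s⁻¹ := by
    have h6 : g ^ 3 * s * (g ^ 3)⁻¹ = g * (g * (g * s * g⁻¹) * g⁻¹) * g⁻¹ := by
      rw [pow_succ, pow_two]
      simp only [mul_inv_rev, mul_assoc]
    have h7 : g * s⁻¹ * g⁻¹ = s := by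
      have := congrArg (·⁻¹) h
      simp only [mul_inv_rev, inv_inv] at this
      rw [mul_assoc]; exact this
    rw [h6, h, h7, h]
  rw [h4, mul_inv_cancel_right] at h5
  have h8 : s * s = 1 := by
    calc s * s = s * s⁻¹ := by rw [← h5]
      _ = 1 := mul_inv_cancel s
  have h9 := orderOf_dvd_of_pow_eq_one (show s ^ 2 = 1 by rw [pow_two]; exact h8)
  rw [orderOf_s] at h9
  exact absurd h9 (by norm_num)

theorem not_conj (σ τ : Equiv.Perm (Fin 5)) : ¬ IsConj (s * psi σ) (s⁻¹ * psi τ) := by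
  intro h
  obtain ⟨g, hg⟩ := isConj_iff.1 h
  -- the 7-parts
  have h1 : ∀ (a : 𝒢), a ^ 7 = 1 → ∀ ρ : Equiv.Perm (Fin 5), a * psi ρ = psi ρ * a → (a * psi ρ) ^ 120 = a := by
    intro a ha ρ hc
    rw [(show Commute a (psi ρ) from hc).mul_pow, ← map_pow]
    have h2 : ρ ^ 120 = 1 := by
      have := pow_card_eq_one' (x := ρ)
      rwa [card_perm] at this
    rw [h2, map_one, mul_one, show 120 = 7 * 17 + 1 by norm_num, pow_succ, pow_mul, ha, one_pow, one_mul]
  have h2 : (g * (s * psi σ) * g⁻¹) ^ 120 = (s⁻¹ * psi τ) ^ 120 := by rw [hg]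
  rw [conj_pow, h1 s s_pow σ (comm_s σ), h1 s⁻¹ (by rw [inv_pow, s_pow, inv_one]) τ
    (central _ (inv_mem (mem_zpowers s)) τ)] at h2
  exact not_conj_inv g h2

theorem orderOf_of_conj {a b : 𝒢} (h : IsConj a b) : orderOf a = orderOf b := by
  obtain ⟨g, rfl⟩ := isConj_iff.1 h
  exact (orderOf_injective (MulAut.conj g).toMonoidHom (MulAut.conj g).injective a).symm

theorem exhaust (g : 𝒢) (hg : 7 ∣ orderOf g) : ∃ σ, IsConj g (s * psi σ) ∨ IsConj g (s⁻¹ * psi σ) := by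
  have hfact : Fact (Nat.Prime 7) := ⟨by norm_num⟩
  obtain ⟨u, v, huv, ⟨n, hn⟩, hv⟩ := exists_parts (p := 7) (by norm_num) g
  have ha1 : g ^ u ≠ 1 := by
    intro h
    rw [h, one_mul] at huv
    rw [huv] at hv
    exact hv hg
  have hcomm : g ^ v * g ^ u = g ^ u * g ^ v := by rw [← pow_add, ← pow_add, add_comm]
  have key : ∀ a : 𝒢, IsConj (g ^ u) a → ∃ r : 𝒢, IsConj g (a * r) ∧ r * a = a * r ∧ ¬ 7 ∣ orderOf r := by
    intro a ha
    obtain ⟨y, rfl⟩ := isConj_iff.1 ha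
    refine ⟨y * g ^ v * y⁻¹, isConj_iff.2 ⟨y, ?_⟩, ?_, ?_⟩
    · conv_lhs => rw [← huv]
      group
    · have e1 : y * g ^ v * y⁻¹ * (y * g ^ u * y⁻¹) = y * (g ^ v * g ^ u) * y⁻¹ := by group
      have e2 : y * g ^ u * y⁻¹ * (y * g ^ v * y⁻¹) = y * (g ^ u * g ^ v) * y⁻¹ := by group
      rw [e1, e2, hcomm]
    · rwa [← orderOf_of_conj (isConj_iff.2 ⟨y, rfl⟩ : IsConj (g ^ v) (y * g ^ v * y⁻¹))]
  obtain ⟨y, hy⟩ := Cfsg.Agent.H859.SylEleven.exists_conj_mem isPGroup_S7 not_dvd_S7 ⟨n, hn⟩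
  rw [S7_eq'] at hy
  have hy1 : y * g ^ u * y⁻¹ ≠ 1 := by
    intro h
    apply ha1
    have h2 : g ^ u = y⁻¹ * (y * g ^ u * y⁻¹) * y := by group
    rw [h2, h]; group
  classical
  obtain ⟨k, hk, hk'⟩ := Finset.mem_image.1 (mem_zpowers_iff_mem_range_orderOf.1 hy)
  rw [orderOf_s, Finset.mem_range] at hk
  have hk' : s ^ k = y * g ^ u * y⁻¹ := hk'
  have hc : IsConj (g ^ u) (s ^ k) := isConj_iff.2 ⟨y, hk'.symm⟩
  have hk0 : k ≠ 0 := by
    rintro rfl
    rw [pow_zero] at hk'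
    exact hy1 hk'.symm
  have hs : ∀ k ∈ [1, 2, 4], IsConj (s ^ k) s := fun k hk => by
    have := pow_psi 1 k hk
    rwa [map_one, mul_one, mul_one] at this
  have hs' : ∀ k ∈ [3, 5, 6], IsConj (s ^ k) s⁻¹ := fun k hk => by
    have := pow_psi' 1 k hk
    rwa [map_one, mul_one, mul_one] at this
  have hcase : k ∈ [1, 2, 4] ∨ k ∈ [3, 5, 6] := by
    simp only [List.mem_cons, List.not_mem_nil, or_false]
    omega
  rcases hcase with h | h
  · obtain ⟨r, h1, h2, h3⟩ := key s (hc.trans (hs k h))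
    obtain ⟨σ, hσ⟩ := spl.exists_eq central h2 h3
    exact ⟨σ, Or.inl (hσ ▸ h1)⟩
  · obtain ⟨r, h1, h2, h3⟩ := key s⁻¹ (hc.trans (hs' k h))
    obtain ⟨σ, hσ⟩ := spl'.exists_eq central h2 h3
    exact ⟨σ, Or.inr (hσ ▸ h1)⟩

/-- the data -/
noncomputable def D : Data7 𝒢 where
  y := s
  psi := psi

theorem ord_mul (σ : Equiv.Perm (Fin 5)) : orderOf (s * psi σ) = 7 * orderOf σ := by
  have h := (show Commute s (psi σ) from comm_s σ).orderOf_mul_eq_mul_orderOf_of_coprime (by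
    rw [orderOf_s, orderOf_injective psi psi_inj]
    have h1 : orderOf σ ∣ 120 := card_perm ▸ orderOf_dvd_natCard σ
    exact Nat.Coprime.coprime_dvd_right h1 (by norm_num))
  rw [h, orderOf_s, orderOf_injective psi psi_inj]

theorem form (g : 𝒢) (hg : g * s = s * g) : ∃ (i : ℕ) (σ : Equiv.Perm (Fin 5)), g = s ^ i * psi σ := by
  obtain ⟨u, hu, σ, h⟩ := spl.form (mem_centralizer_singleton_iff.2 hg)
  classical
  obtain ⟨k, -, hk⟩ := Finset.mem_image.1 (mem_zpowers_iff_mem_range_orderOf.1 hu)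
  have hk' : s ^ k = u := hk
  exact ⟨k, σ, by rw [hk', h]⟩

/-- **the elements of `J₄` of order divisible by 7** -/
theorem seven : Seven D where
  ord_y := orderOf_s
  inj := psi_inj
  comm := comm_s
  form := form
  card_cent := card_cent
  card_cent' := card_cent'
  ord := ord_mul
  conj_iff := fun _ _ => spl.conj_iff
  not_conj := not_conj
  pow := pow_psi
  pow' := pow_psi'
  exhaust := exhaust

end Sv

end Cfsg.Agent.H265.J4LP
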